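import Mathlib.FieldTheory.Finite.Basic
import Mathlib.FieldTheory.Finite.GaloisField

/-! The automorphisms of a finite field (as in `Cfsg.Agent.AutPSL.Out`, with few imports). -/

set_option autoImplicit false

namespace CfsgLib.Chev

variable {F : Type*} [Field F]

/-- The automorphism group of a finite field with `p ^ f` elements is cyclic of order `f`. -/
theorem nonempty_ringAut_cyclic [Fintype F] {p f : ℕ} [Fact p.Prime] (hf : 1 ≤ f)
    (hF : Fintype.card F = p ^ f) : Nonempty (RingAut F ≃* Multiplicative (ZMod f)) := by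
  haveI : CharP F p := by
    obtain ⟨c, hc⟩ := CharP.exists F
    haveI := hc
    obtain ⟨⟨k, hk⟩, hcp, hcard⟩ := FiniteField.card F c
    have hpow : p ∣ c ^ k := by
      have : c ^ k = p ^ f := hcard.symm.trans hF
      rw [this]; exact dvd_pow_self p (by omega)
    rwa [(Nat.prime_dvd_prime_iff_eq (Fact.out) hcp).mp ((Fact.out : p.Prime).dvd_of_dvd_pow hpow)]
  letI := ZMod.algebra F p
  let T : RingAut F ≃* Gal(F/ZMod p) :=
    { toFun := fun σ => AlgEquiv.ofRingEquiv (f := σ) fun x => by
        exact RingHom.congr_fun (Subsingleton.elim ((σ : F →+* F).comp (algebraMap (ZMod p) F)) (algebraMap (ZMod p) F)) x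
      invFun := fun e => e.toRingEquiv
      left_inv := fun σ => RingEquiv.ext fun _ => rfl
      right_inv := fun e => AlgEquiv.ext fun _ => rfl
      map_mul' := fun σ τ => AlgEquiv.ext fun _ => rfl }
  have hrank : Module.finrank (ZMod p) F = f := by
    have h := Module.card_eq_pow_finrank (K := ZMod p) (V := F)
    rw [hF, ZMod.card] at h
    exact ((Nat.pow_right_injective (Fact.out : p.Prime).two_le) h).symm
  have hcard : Nat.card Gal(F/ZMod p) = Nat.card (Multiplicative (ZMod f)) := by
    rw [IsGalois.card_aut_eq_finrank, hrank, Nat.card_congr Multiplicative.toAdd, Nat.card_zmod]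
  exact ⟨T.trans (mulEquivOfCyclicCardEq hcard)⟩

end CfsgLib.Chev
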