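import Cfsg.Agent.ChevAut.OutParts
import Cfsg.Agent.Chev.OrderCheck
import Cfsg.Agent.ChevAut.FieldCard

/-! Counting the outer automorphisms. -/

set_option autoImplicit false

namespace CfsgLib.Chev

open Cfsg.Lie Matrix
open scoped MatrixGroups

/-- The node permutations which have a graph automorphism. -/
def graphPerms (D : ChevalleyDatum) (F : Type*) [Field F] : Set (Equiv.Perm (Fin D.rank)) :=
  {π | ∃ g : ↥(D.group F) ≃* ↥(D.group F), GraphFor D g π ∧ Tab.FixUV g}

/-- The action of the torus on the fundamental roots. -/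
def Tab.chiSimple {D : ChevalleyDatum} (T : Tab D) (F : Type*) [Field F] :
    (Fin D.rank → Fˣ) →* (Fin D.rank → Fˣ) :=
  MonoidHom.pi fun j => T.chi (D.simple j)

namespace Tab.Good

variable {D : ChevalleyDatum} {T : Tab D} (G : T.Good) {F : Type*} [Field F]
include G

theorem ker_chiSimple : (T.chiSimple F).ker = (T.hT F).ker := by
  ext c
  rw [MonoidHom.mem_ker, MonoidHom.mem_ker, G.full.hT_eq_one_iff]
  exact ⟨fun h j hj => congrFun h ⟨j, hj⟩, fun h => funext fun j => h j.val j.isLt⟩

theorem graphFor_acts {g : ↥(D.group F) ≃* ↥(D.group F)} {π : Equiv.Perm (Fin D.rank)}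
    (hg : GraphFor D g π) :
    Acts G g π (fun i t => t ^ expAt D F π i) fun i t => t ^ expAt D F π i :=
  ⟨fun i t => (GraphFor.apply G hg i t).1, fun i t => (GraphFor.apply G hg i t).2⟩

theorem graphPerms_symmetry (hb : T.chkBonds = true) {π : Equiv.Perm (Fin D.rank)}
    (h : π ∈ graphPerms D F) : D.IsDiagramSymmetry π := by
  obtain ⟨g, hg, hfix⟩ := h
  exact G.acts_symmetry hb hfix (G.graphFor_acts hg) fun i => one_pow _

theorem exists_isStd_of [Finite F]
    (hD : D ∈ [chevG2, chevB2, chevD4, chevF4, chevE6, chevE7, chevE8])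
    {det : ℤ} {M : List (List ℤ)} (hcoef : T.chkCoef det M = true)
    (u : Fin D.rank → Fˣ) {π : Equiv.Perm (Fin D.rank)} (hπ : π ∈ graphPerms D F) (σ : F ≃+* F) :
    ∃ (N : MulAut ↥(D.group F)) (χ : ℕ → Fˣ), D.IsRootCharacter χ ∧
      (∀ j : Fin D.rank, χ (D.simple j) = u j) ∧ IsStd G N χ π σ := by
  obtain ⟨χ, hχ, hu⟩ := G.exists_rootChar hcoef u
  obtain ⟨d, -, hd⟩ := G.exists_diagAut hD hχ
  obtain ⟨g, hg, hgfix⟩ := hπ
  obtain ⟨f, -, hf⟩ := G.exists_fieldAut (F := F) σ
  exact ⟨_, χ, hχ, hu, G.isStd_comp hD hχ hd hg hgfix hf⟩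

/-- The order of the outer automorphism group. -/
theorem card_out [Finite F] (hr0 : 0 < D.rank)
    (hD : D ∈ [chevG2, chevB2, chevD4, chevF4, chevE6, chevE7, chevE8])
    {det : ℤ} {M : List (List ℤ)} (hcoef : T.chkCoef det M = true) :
    Nat.card (Cfsg.Out ↥(D.group F)) =
      Nat.card (T.hT F).ker * Nat.card (graphPerms D F) * Nat.card (F ≃+* F) := by
  classical
  set R := (T.chiSimple F).range with hR
  have hker : Nat.card ((Fin D.rank → Fˣ) ⧸ R) = Nat.card (T.hT F).ker := by
    have h1 := Subgroup.card_eq_card_quotient_mul_card_subgroup R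
    have h2 := Subgroup.card_eq_card_quotient_mul_card_subgroup (T.chiSimple F).ker
    rw [Nat.card_congr (QuotientGroup.quotientKerEquivRange (T.chiSimple F)).toEquiv, ← hR,
      G.ker_chiSimple, mul_comm] at h2
    exact Nat.eq_of_mul_eq_mul_right Nat.card_pos (h1.symm.trans h2)
  choose N χ hχ hu hN using fun u (π : graphPerms D F) σ =>
    G.exists_isStd_of hD hcoef u π.2 σ
  let Ψ : ((Fin D.rank → Fˣ) ⧸ R) × graphPerms D F × (F ≃+* F) → Cfsg.Out ↥(D.group F) :=
    fun q => (N q.1.out q.2.1 q.2.2 : Cfsg.Out ↥(D.group F))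
  have hbij : Function.Bijective Ψ := by
    constructor
    · rintro ⟨q, π, σ⟩ ⟨q', π', σ'⟩ e
      obtain ⟨hπ, hσ, c, hc⟩ :=
        (G.isStd_class_eq_iff hr0 (hχ _ _ _) (hχ _ _ _) (hN _ _ _) (hN _ _ _)).mp e
      obtain rfl := Subtype.ext hπ
      subst hσ
      have hq : q = q' := by
        rw [← QuotientGroup.out_eq' q, ← QuotientGroup.out_eq' q', QuotientGroup.eq]
        refine ⟨c⁻¹, funext fun j => ?_⟩
        show T.chi (D.simple j) c⁻¹ = (q.out j)⁻¹ * q'.out j
        have := hc j
        rw [hu, hu] at this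
        rw [map_inv, this, mul_inv, inv_mul_cancel_right]
      rw [hq]
    · intro o
      obtain ⟨θ, rfl⟩ := QuotientGroup.mk_surjective o
      obtain ⟨ψ, π, σ, d, g, f, hψ, -, -, hg, hgfix, hstd, e⟩ := G.exists_isStd hD θ
      set u : Fin D.rank → Fˣ := fun j => ψ (D.simple j)
      refine ⟨((u : (Fin D.rank → Fˣ) ⧸ R), ⟨π, g, hg, hgfix⟩, σ), ?_⟩
      obtain ⟨⟨r, hr⟩, hout⟩ := QuotientGroup.mk_out_eq_mul R u
      obtain ⟨c, rfl⟩ := hr
      refine Eq.trans ?_ e.symm
      refine (G.isStd_class_eq_iff hr0 (hχ _ _ _) hψ (hN _ _ _) hstd).mpr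
        ⟨rfl, rfl, c, fun j => ?_⟩
      rw [hu, hout]
      exact mul_comm _ _
  rw [← Nat.card_congr (Equiv.ofBijective Ψ hbij), Nat.card_prod, Nat.card_prod, hker, mul_assoc]

theorem card_ker [Fintype F] {S : SmithData} (h : T.chkSmith S = true) :
    Nat.card (T.hT F).ker = (S.d.map fun d => Nat.gcd (Fintype.card F - 1) d).prod := by
  classical
  have h1 := G.card_diagonal (F := F) h
  have h2 := Subgroup.card_eq_card_quotient_mul_card_subgroup (T.hT F).ker
  rw [Nat.card_congr (QuotientGroup.quotientKerEquivRange (T.hT F)).toEquiv,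
    ← G.full.diagonal_eq_range, Nat.card_pi, Finset.prod_const, Finset.card_univ,
    Fintype.card_fin, Nat.card_eq_fintype_card (α := Fˣ), Fintype.card_units, ← h1, mul_comm] at h2
  exact (Nat.eq_of_mul_eq_mul_left Nat.card_pos h2).symm

end Tab.Good

theorem one_mem_graphPerms (D : ChevalleyDatum) (F : Type*) [Field F] :
    (1 : Equiv.Perm (Fin D.rank)) ∈ graphPerms D F :=
  exists_refl_fix

theorem graphPerms_E7 (F : Type*) [Field F] : graphPerms chevE7 F = {1} := by
  refine Set.eq_singleton_iff_unique_mem.mpr ⟨one_mem_graphPerms _ F, fun π hπ => ?_⟩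
  have hm := permVals_mem (good_E7.graphPerms_symmetry (by
    have := aut_E7; simp only [Tab.chkAut, Bool.and_eq_true] at this; exact this.1.2) hπ) bonds_E7_eq
  rw [symList_E7, List.mem_singleton] at hm
  exact eq_one_of_permVals (hm.trans rfl)

theorem graphPerms_E8 (F : Type*) [Field F] : graphPerms chevE8 F = {1} := by
  refine Set.eq_singleton_iff_unique_mem.mpr ⟨one_mem_graphPerms _ F, fun π hπ => ?_⟩
  have hm := permVals_mem (good_E8.graphPerms_symmetry (by
    have := aut_E8; simp only [Tab.chkAut, Bool.and_eq_true] at this; exact this.1.2) hπ) bonds_E8_eq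
  rw [symList_E8, List.mem_singleton] at hm
  exact eq_one_of_permVals (hm.trans rfl)

/-- The non-trivial symmetry of type E6. -/
def flipE6 : Equiv.Perm (Fin chevE6.rank) :=
  Equiv.swap ⟨0, by decide⟩ ⟨5, by decide⟩ * Equiv.swap ⟨2, by decide⟩ ⟨4, by decide⟩

theorem graphPerms_E6 (F : Type*) [Field F] [Finite F] :
    graphPerms chevE6 F = {1, flipE6} := by
  refine Set.ext fun π => ⟨fun hπ => ?_, ?_⟩
  · have hm := permVals_mem (good_E6.graphPerms_symmetry (by
      have := aut_E6; simp only [Tab.chkAut, Bool.and_eq_true] at this; exact this.1.2) hπ)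
      bonds_E6_eq
    rw [symList_E6] at hm
    simp only [List.mem_cons, List.not_mem_nil, or_false] at hm
    rcases hm with h | h
    · exact Or.inl (eq_one_of_permVals (h.trans rfl))
    · exact Or.inr (permVals_injective (h.trans (by decide +kernel)))
  · rintro (rfl | rfl)
    · exact one_mem_graphPerms _ F
    · exact graph_E6 (by unfold ChevalleyDatum.IsDiagramSymmetry; decide +kernel)

/-- The non-trivial symmetry of type G2. -/
def flipG2 : Equiv.Perm (Fin chevG2.rank) := Equiv.swap ⟨0, by decide⟩ ⟨1, by decide⟩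

/-- The non-trivial symmetry of type B2. -/
def flipB2 : Equiv.Perm (Fin chevB2.rank) := Equiv.swap ⟨0, by decide⟩ ⟨1, by decide⟩

/-- The non-trivial symmetry of type F4. -/
def flipF4 : Equiv.Perm (Fin chevF4.rank) :=
  Equiv.swap ⟨0, by decide⟩ ⟨3, by decide⟩ * Equiv.swap ⟨1, by decide⟩ ⟨2, by decide⟩

theorem graphPerms_G2 (F : Type*) [Field F] [Finite F] :
    (((3 : ℕ) : F) = 0 → graphPerms chevG2 F = {1, flipG2}) ∧
      (((3 : ℕ) : F) ≠ 0 → graphPerms chevG2 F = {1}) := by
  have hsub : ∀ π ∈ graphPerms chevG2 F, π = 1 ∨ (π = flipG2 ∧ ((3 : ℕ) : F) = 0) := by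
    intro π hπ
    have hm := permVals_mem (good_G2.graphPerms_symmetry (by
      have := aut_G2; simp only [Tab.chkAut, Bool.and_eq_true] at this; exact this.1.2) hπ)
      bonds_G2_eq
    rw [symList_G2] at hm
    simp only [List.mem_cons, List.not_mem_nil, or_false] at hm
    rcases hm with h | h
    · exact Or.inl (eq_one_of_permVals (h.trans rfl))
    · obtain rfl : π = flipG2 := permVals_injective (h.trans (by decide +kernel))
      obtain ⟨g, hg, -⟩ := hπ
      exact Or.inr ⟨rfl, good_G2.acts_char (good_G2.graphFor_acts hg) (fun i => one_pow _) (p := 3)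
        [] [⟨0, by decide⟩, ⟨1, by decide⟩] ⟨1, by decide⟩ ⟨1, by decide⟩ (by decide +kernel)⟩
  refine ⟨fun hp => Set.ext fun π => ⟨fun h => (hsub π h).imp id And.left, ?_⟩, fun hp =>
    Set.eq_singleton_iff_unique_mem.mpr ⟨one_mem_graphPerms _ F, fun π h =>
      (hsub π h).resolve_right fun h' => hp h'.2⟩⟩
  rintro (rfl | rfl)
  · exact one_mem_graphPerms _ F
  · exact exists_graphFor good_G2 ⟨_, wits_G2⟩ hp (Or.inr Nat.prime_three) chkGraphG2
      graphSimple_G2 (by decide +kernel) (by decide +kernel)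

theorem graphPerms_F4 (F : Type*) [Field F] [Finite F] :
    (((2 : ℕ) : F) = 0 → graphPerms chevF4 F = {1, flipF4}) ∧
      (((2 : ℕ) : F) ≠ 0 → graphPerms chevF4 F = {1}) := by
  have hsub : ∀ π ∈ graphPerms chevF4 F, π = 1 ∨ (π = flipF4 ∧ ((2 : ℕ) : F) = 0) := by
    intro π hπ
    have hm := permVals_mem (good_F4.graphPerms_symmetry (by
      have := aut_F4; simp only [Tab.chkAut, Bool.and_eq_true] at this; exact this.1.2) hπ)
      bonds_F4_eq
    rw [symList_F4] at hm
    simp only [List.mem_cons, List.not_mem_nil, or_false] at hm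
    rcases hm with h | h
    · exact Or.inl (eq_one_of_permVals (h.trans rfl))
    · obtain rfl : π = flipF4 := permVals_injective (h.trans (by decide +kernel))
      obtain ⟨g, hg, -⟩ := hπ
      exact Or.inr ⟨rfl, good_F4.acts_char (good_F4.graphFor_acts hg) (fun i => one_pow _) (p := 2)
        [] [⟨1, by decide⟩] ⟨2, by decide⟩ ⟨2, by decide⟩ (by decide +kernel)⟩
  refine ⟨fun hp => Set.ext fun π => ⟨fun h => (hsub π h).imp id And.left, ?_⟩, fun hp =>
    Set.eq_singleton_iff_unique_mem.mpr ⟨one_mem_graphPerms _ F, fun π h =>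
      (hsub π h).resolve_right fun h' => hp h'.2⟩⟩
  rintro (rfl | rfl)
  · exact one_mem_graphPerms _ F
  · exact exists_graphFor good_F4 ⟨_, wits_F4⟩ hp (Or.inr Nat.prime_two) chkGraphF4
      graphSimple_F4 (by decide +kernel) (by decide +kernel)

theorem graphPerms_B2 (F : Type*) [Field F] [Finite F] :
    (((2 : ℕ) : F) = 0 → graphPerms chevB2 F = {1, flipB2}) ∧
      (((2 : ℕ) : F) ≠ 0 → graphPerms chevB2 F = {1}) := by
  have hsub : ∀ π ∈ graphPerms chevB2 F, π = 1 ∨ (π = flipB2 ∧ ((2 : ℕ) : F) = 0) := by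
    intro π hπ
    have hm := permVals_mem (good_B2.graphPerms_symmetry (by
      have := aut_B2; simp only [Tab.chkAut, Bool.and_eq_true] at this; exact this.1.2) hπ)
      bonds_B2_eq
    rw [symList_B2] at hm
    simp only [List.mem_cons, List.not_mem_nil, or_false] at hm
    rcases hm with h | h
    · exact Or.inl (eq_one_of_permVals (h.trans rfl))
    · obtain rfl : π = flipB2 := permVals_injective (h.trans (by decide +kernel))
      obtain ⟨g, hg, -⟩ := hπ
      exact Or.inr ⟨rfl, good_B2.acts_char (good_B2.graphFor_acts hg) (fun i => one_pow _) (p := 2)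
        [] [⟨0, by decide⟩] ⟨1, by decide⟩ ⟨1, by decide⟩ (by decide +kernel)⟩
  refine ⟨fun hp => Set.ext fun π => ⟨fun h => (hsub π h).imp id And.left, ?_⟩, fun hp =>
    Set.eq_singleton_iff_unique_mem.mpr ⟨one_mem_graphPerms _ F, fun π h =>
      (hsub π h).resolve_right fun h' => hp h'.2⟩⟩
  rintro (rfl | rfl)
  · exact one_mem_graphPerms _ F
  · exact exists_graphFor good_B2 ⟨_, wits_B2⟩ hp (Or.inr Nat.prime_two) chkGraphB2
      graphSimple_B2 (by decide +kernel) (by decide +kernel)

theorem graphPerms_D4 (F : Type*) [Field F] [Finite F] :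
    graphPerms chevD4 F = {π | chevD4.IsDiagramSymmetry π} :=
  Set.ext fun π => ⟨good_D4.graphPerms_symmetry (by
    have := aut_D4; simp only [Tab.chkAut, Bool.and_eq_true] at this; exact this.1.2),
    fun h => graph_D4 h⟩

/-- The number of field automorphisms. -/
theorem card_ringEquiv {F : Type*} [Field F] [Fintype F] {p f : ℕ} [Fact p.Prime] [CharP F p]
    (hF : Fintype.card F = p ^ f) : Nat.card (F ≃+* F) = f := by
  have hf : 1 ≤ f := by
    rcases Nat.eq_zero_or_pos f with h | h
    · rw [h, pow_zero] at hF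
      exact absurd hF (Fintype.one_lt_card (α := F)).ne'
    · exact h
  obtain ⟨e⟩ := nonempty_ringAut_cyclic (F := F) hf hF
  show Nat.card (RingAut F) = f
  rw [Nat.card_congr e.toEquiv, Nat.card_congr Multiplicative.toAdd, Nat.card_zmod]

end CfsgLib.Chev
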