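import Cfsg.Agent.Chev.GoodAll
import Cfsg.Agent.Chev.RootElem
import Cfsg.Agent.Chev.Torus
import Cfsg.Agent.Chev.BNP
import Cfsg.Prelude.Def_ChevAutomorphisms
import Cfsg.Agent.S2157

/-! Characters of the root lattice with given values at the fundamental roots. -/

set_option autoImplicit false

namespace CfsgLib.Chev

open Cfsg.Lie Matrix
open scoped MatrixGroups

namespace Tab

variable {D : ChevalleyDatum}

/-- Row `k` of an adjugate of the Cartan matrix, applied to the Cartan weights of `r`. -/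
def coefNum (T : Tab D) (M : List (List ℤ)) (k r : ℕ) : ℤ :=
  ((List.range D.rank).map fun j => (M.getD k []).getD j 0 * T.cart j r).sum

/-- The matrix gives the coefficients of the roots on the fundamental ones, times `det`. -/
def chkCoef (T : Tab D) (det : ℤ) (M : List (List ℤ)) : Bool :=
  decide (det ≠ 0) && allBelow (fun k =>
    allBelow (fun r => decide (T.coefNum M k r % det = 0)) D.nroots &&
      allBelow (fun j => decide (T.coefNum M k (D.simple j) = if j = k then det else 0)) D.rank)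
    D.rank

namespace Good

variable {T : Tab D} (G : T.Good) {F : Type*} [Field F]
include G

theorem exists_coef {det : ℤ} {M : List (List ℤ)} (h : T.chkCoef det M = true) :
    ∃ w : Fin D.rank → ℕ → ℤ,
      (∀ k, ∀ r < D.nroots, w k (D.neg r) = - w k r) ∧
      (∀ k r s q, r < D.nroots → s < D.nroots → D.chainRoot r s 1 = some q →
        w k q = w k r + w k s) ∧
      ∀ k j : Fin D.rank, w k (D.simple j) = if j = k then 1 else 0 := by
  simp only [chkCoef, Bool.and_eq_true, allBelow_iff, decide_eq_true_eq] at h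
  obtain ⟨hdet, h⟩ := h
  refine ⟨fun k r => T.coefNum M k r / det, fun k r hr => ?_, fun k r s q hr hs hq => ?_,
    fun k j => ?_⟩
  · rw [G.full.cert.neg_eq hr]
    have e : T.coefNum M k (negR D r) = - T.coefNum M k r := by
      simp only [coefNum, list_sum_range, ← Finset.sum_neg_distrib]
      refine Finset.sum_congr rfl fun j _ => ?_
      rw [((G.full.cert.root_spec hr).2.2.2.1 j j.isLt).1]
      ring
    show T.coefNum M k (negR D r) / det = _
    rw [e, Int.neg_ediv_of_dvd (Int.dvd_of_emod_eq_zero ((h k k.isLt).1 r hr))]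
  · rw [ChevalleyDatum.chainRoot, G.full.cert.chainEntry_eq hr hs, Option.map_eq_some_iff] at hq
    obtain ⟨p, hp, rfl⟩ := hq
    simp only [Nat.sub_self] at hp
    obtain ⟨hlt, -, -, hadd⟩ := G.full.cert.ent_spec hr hs hp
    simp only [chkAdd, Bool.and_eq_true, decide_eq_true_eq, allBelow_iff] at hadd
    have e : T.coefNum M k p.1 = T.coefNum M k r + T.coefNum M k s := by
      simp only [coefNum, list_sum_range, ← Finset.sum_add_distrib]
      refine Finset.sum_congr rfl fun j _ => ?_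
      rw [hadd.2 j j.isLt]
      push_cast
      ring
    show T.coefNum M k p.1 / det = _
    rw [e, Int.add_ediv_of_dvd_left (Int.dvd_of_emod_eq_zero ((h k k.isLt).1 r hr))]
  · show T.coefNum M k (D.simple j) / det = _
    rw [(h k k.isLt).2 j j.isLt]
    simp only [Fin.ext_iff]
    split_ifs with e
    · exact Int.ediv_self hdet
    · exact Int.zero_ediv _

theorem exists_rootChar {det : ℤ} {M : List (List ℤ)} (h : T.chkCoef det M = true)
    (u : Fin D.rank → Fˣ) :
    ∃ χ : ℕ → Fˣ, D.IsRootCharacter χ ∧ ∀ j : Fin D.rank, χ (D.simple j) = u j := by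
  obtain ⟨w, h1, h2, h3⟩ := G.exists_coef h
  refine ⟨fun r => ∏ k, u k ^ w k r, ⟨fun r hr => ?_, fun r s q hr hs hq => ?_⟩, fun j => ?_⟩
  · rw [← Finset.prod_inv_distrib]
    exact Finset.prod_congr rfl fun k _ => by rw [h1 k r hr, _root_.zpow_neg]
  · rw [← Finset.prod_mul_distrib]
    exact Finset.prod_congr rfl fun k _ => by rw [h2 k r s q hr hs hq, _root_.zpow_add]
  · show ∏ k, u k ^ w k (D.simple j) = u j
    rw [Finset.prod_eq_single j (fun k _ hk => by rw [h3, if_neg (Ne.symm hk), zpow_zero])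
      (by simp), h3, if_pos rfl, zpow_one]

/-- The diagonal matrix of a character as an element of `GL`. -/
def charUnit (D : ChevalleyDatum) (χ : ℕ → Fˣ) : GL D.Idx F :=
  Units.map (Matrix.diagonalRingHom D.Idx F).toMonoidHom
    (MulEquiv.piUnits.symm fun b => Sum.elim (fun _ => (1 : Fˣ)) (fun r => χ r.val) b)

omit G in
theorem coe_charUnit (χ : ℕ → Fˣ) :
    ((charUnit D χ : GL D.Idx F) : Matrix D.Idx D.Idx F) = D.charDiag F χ := by
  show Matrix.diagonal _ = Matrix.diagonal _
  refine congrArg Matrix.diagonal (funext fun b => ?_)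
  rcases b with i | r <;> rfl

omit G in
theorem coe_charUnit_inv (χ : ℕ → Fˣ) :
    (((charUnit D χ)⁻¹ : GL D.Idx F) : Matrix D.Idx D.Idx F) = D.charDiag F fun r => (χ r)⁻¹ := by
  refine Units.inv_eq_of_mul_eq_one_right ?_
  rw [coe_charUnit, ChevalleyDatum.charDiag, ChevalleyDatum.charDiag, Matrix.diagonal_mul_diagonal,
    ← Matrix.diagonal_one]
  refine congrArg Matrix.diagonal (funext fun b => ?_)
  rcases b with i | r <;> simp

theorem charUnit_conj_x (hD : D ∈ [chevG2, chevB2, chevD4, chevF4, chevE6, chevE7, chevE8])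
    {χ : ℕ → Fˣ} (hχ : D.IsRootCharacter χ) {r : ℕ} (hr : r < D.nroots) (t : F) :
    charUnit D χ * G.full.x r t * (charUnit D χ)⁻¹ = G.full.x r ((χ r : F) * t) := by
  apply Units.ext
  rw [Units.val_mul, Units.val_mul, coe_charUnit, coe_charUnit_inv, G.full.coe_x', G.full.coe_x',
    Cfsg.Agent.S2157.result D hD χ hχ r hr t]

/-- The diagonal automorphism of a character. -/
theorem exists_diagAut (hD : D ∈ [chevG2, chevB2, chevD4, chevF4, chevE6, chevE7, chevE8])
    {χ : ℕ → Fˣ} (hχ : D.IsRootCharacter χ) :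
    ∃ d : ↥(D.group F) ≃* ↥(D.group F), D.IsDiagonalAut d ∧
      ∀ g : ↥(D.group F),
        (d g : GL D.Idx F) = charUnit D χ * (g : GL D.Idx F) * (charUnit D χ)⁻¹ := by
  have hinv : D.IsRootCharacter (fun r => (χ r)⁻¹) :=
    ⟨fun r hr => by show (χ (D.neg r))⁻¹ = _; rw [hχ.1 r hr],
      fun r s k hr hs hk => by show (χ k)⁻¹ = _; rw [hχ.2 r s k hr hs hk, mul_inv]⟩
  have hmem : ∀ ψ : ℕ → Fˣ, D.IsRootCharacter ψ → ∀ g ∈ D.group F,
      charUnit D ψ * g * (charUnit D ψ)⁻¹ ∈ D.group F := by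
    intro ψ hψ g hg
    have hle : D.group F ≤ (D.group F).comap (MulAut.conj (charUnit D ψ)).toMonoidHom :=
      G.group_le_iff.mpr fun r hr t => by
        show charUnit D ψ * G.full.x r t * (charUnit D ψ)⁻¹ ∈ D.group F
        rw [G.charUnit_conj_x hD hψ hr]
        exact G.x_mem_group _ _
    exact hle hg
  have e : (charUnit D χ : GL D.Idx F)⁻¹ = charUnit D fun r => (χ r)⁻¹ := by
    apply Units.ext
    rw [coe_charUnit_inv, coe_charUnit]
  let d : ↥(D.group F) ≃* ↥(D.group F) :=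
    { toFun := fun g => ⟨_, hmem χ hχ g g.2⟩
      invFun := fun g => ⟨_, hmem _ hinv g g.2⟩
      left_inv := fun g => Subtype.ext (by
        show charUnit D _ * (charUnit D χ * (g : GL D.Idx F) * (charUnit D χ)⁻¹) * (charUnit D _)⁻¹ = _
        rw [← e]; group)
      right_inv := fun g => Subtype.ext (by
        show charUnit D χ * (charUnit D _ * (g : GL D.Idx F) * (charUnit D _)⁻¹) * (charUnit D χ)⁻¹ = _
        rw [← e]; group)
      map_mul' := fun g h => Subtype.ext (by
        show charUnit D χ * (g * h : GL D.Idx F) * (charUnit D χ)⁻¹ =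
          charUnit D χ * g * (charUnit D χ)⁻¹ * (charUnit D χ * h * (charUnit D χ)⁻¹)
        group) }
  refine ⟨d, ⟨χ, hχ, fun g => ?_⟩, fun g => rfl⟩
  rw [show (d g : GL D.Idx F) = charUnit D χ * g * (charUnit D χ)⁻¹ from rfl, Units.val_mul,
    Units.val_mul, coe_charUnit, coe_charUnit_inv]

end Good

end Tab

/-- Adjugate of the Cartan matrix, type G2. -/
def adjG2 : List (List ℤ) := [[2, 3], [1, 2]]

/-- Adjugate of the Cartan matrix, type B2. -/
def adjB2 : List (List ℤ) := [[2, 2], [1, 2]]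

/-- Adjugate of the Cartan matrix, type D4. -/
def adjD4 : List (List ℤ) := [[4, 4, 2, 2], [4, 8, 4, 4], [2, 4, 4, 2], [2, 4, 2, 4]]

/-- Adjugate of the Cartan matrix, type F4. -/
def adjF4 : List (List ℤ) := [[2, 3, 4, 2], [3, 6, 8, 4], [2, 4, 6, 3], [1, 2, 3, 2]]

/-- Adjugate of the Cartan matrix, type E6. -/
def adjE6 : List (List ℤ) :=
  [[4, 3, 5, 6, 4, 2], [3, 6, 6, 9, 6, 3], [5, 6, 10, 12, 8, 4], [6, 9, 12, 18, 12, 6],
    [4, 6, 8, 12, 10, 5], [2, 3, 4, 6, 5, 4]]

/-- Adjugate of the Cartan matrix, type E7. -/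
def adjE7 : List (List ℤ) :=
  [[4, 4, 6, 8, 6, 4, 2], [4, 7, 8, 12, 9, 6, 3], [6, 8, 12, 16, 12, 8, 4],
    [8, 12, 16, 24, 18, 12, 6], [6, 9, 12, 18, 15, 10, 5], [4, 6, 8, 12, 10, 8, 4],
    [2, 3, 4, 6, 5, 4, 3]]

/-- Adjugate of the Cartan matrix, type E8. -/
def adjE8 : List (List ℤ) :=
  [[4, 5, 7, 10, 8, 6, 4, 2], [5, 8, 10, 15, 12, 9, 6, 3], [7, 10, 14, 20, 16, 12, 8, 4],
    [10, 15, 20, 30, 24, 18, 12, 6], [8, 12, 16, 24, 20, 15, 10, 5], [6, 9, 12, 18, 15, 12, 8, 4],
    [4, 6, 8, 12, 10, 8, 6, 3], [2, 3, 4, 6, 5, 4, 3, 2]]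

theorem coef_G2 : G2Data.tab.chkCoef 1 adjG2 = true := by decide +kernel

theorem coef_B2 : B2Data.tab.chkCoef 2 adjB2 = true := by decide +kernel

theorem coef_D4 : D4Data.tab.chkCoef 4 adjD4 = true := by decide +kernel

theorem coef_F4 : F4Data.tab.chkCoef 1 adjF4 = true := by decide +kernel

theorem coef_E6 : E6Data.tab.chkCoef 3 adjE6 = true := by decide +kernel

theorem coef_E7 : E7Data.tab.chkCoef 2 adjE7 = true := by decide +kernel

theorem coef_E8 : E8Data.tab.chkCoef 1 adjE8 = true := by decide +kernel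

theorem exists_coefChk {D : ChevalleyDatum}
    (hD : D ∈ [chevG2, chevB2, chevD4, chevF4, chevE6, chevE7, chevE8]) :
    ∃ (T : Tab D) (_ : T.Good) (det : ℤ) (M : List (List ℤ)), T.chkCoef det M = true := by
  simp only [List.mem_cons, List.not_mem_nil, or_false] at hD
  rcases hD with rfl | rfl | rfl | rfl | rfl | rfl | rfl
  exacts [⟨_, good_G2, _, _, coef_G2⟩, ⟨_, good_B2, _, _, coef_B2⟩, ⟨_, good_D4, _, _, coef_D4⟩,
    ⟨_, good_F4, _, _, coef_F4⟩, ⟨_, good_E6, _, _, coef_E6⟩, ⟨_, good_E7, _, _, coef_E7⟩,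
    ⟨_, good_E8, _, _, coef_E8⟩]

end CfsgLib.Chev
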