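import Cfsg.Agent.Chev.Struct
import Cfsg.Agent.Chev.GoodAll
import Cfsg.Agent.Chev.FieldFix

/-!
The centraliser and normaliser of a finite Chevalley group inside a larger one.
-/

set_option autoImplicit false

namespace CfsgLib.Chev

open Cfsg.Lie Matrix
open scoped MatrixGroups

namespace Tab

variable {D : ChevalleyDatum}

/-- Root elements with parameters fixed by a field map. -/
def fixRoots (D : ChevalleyDatum) {F : Type*} [Field F] (σ : F →+* F) : Subgroup (GL D.Idx F) :=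
  Subgroup.closure {g | ∃ (s : ℕ) (t : F), σ t = t ∧ (g : Matrix D.Idx D.Idx F) = D.x F s t}

/-- Diagonal elements fixed by a field map. -/
def fixDiag (D : ChevalleyDatum) {F : Type*} [Field F] (σ : F →+* F) : Subgroup (GL D.Idx F) :=
  D.diagonalSubgroup F ⊓ ((glMap D σ).eqLocus (MonoidHom.id _))

namespace Good

variable {T : Tab D} (G : T.Good) {F : Type*} [Field F]
include G

theorem ns_mem_of_ones {K : Subgroup (GL D.Idx F)} (h : ∀ r < D.nroots, G.full.x r (1 : F) ∈ K)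
    (i : Fin D.rank) : G.full.ns F i ∈ K := by
  have hi := G.full.simple_lt i.isLt
  have hn : D.neg (D.simple i) = negR D (D.simple i) := G.full.cert.neg_eq hi
  simp only [Full.ns, Full.nr]
  refine mul_mem (mul_mem (h _ hi) ?_) (h _ hi)
  rw [inv_one, ← G.full.x_inv]
  exact inv_mem (h _ (Cert.negR_lt hi))

theorem nw_mem_of_ones {K : Subgroup (GL D.Idx F)} (h : ∀ r < D.nroots, G.full.x r (1 : F) ∈ K)
    (L : List (Fin D.rank)) : G.full.nw F L ∈ K := by
  rw [Full.nw]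
  refine Subgroup.list_prod_mem _ fun g hg => ?_
  obtain ⟨i, -, rfl⟩ := List.mem_map.mp hg
  exact G.ns_mem_of_ones h i

/-- Only the identity commutes with all `x_r(1)`. -/
theorem eq_one_of_commute_ones {g : GL D.Idx F} (hg : g ∈ D.group F)
    (h : ∀ r < D.nroots, g * G.full.x r 1 = G.full.x r 1 * g) : g = 1 := by
  obtain ⟨b, hb, n, hn, L, hL, u, hu, rfl⟩ := G.canonical_exists hg
  have hB := G.flip_le_pos (F := F) (G.full.pw L)
  have hpos : ∀ s, IsPos D s.val → IsPos D (G.full.pw L s).val := by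
    intro s hs
    by_contra hneg
    have hx : G.full.x s.val (1 : F) ∈ G.US F (flipSet (G.full.pw L)) :=
      G.x_mem_US (S := flipSet (G.full.pw L)) ⟨s.isLt, hs, hneg⟩ 1
    have hxb : G.full.x s.val (1 : F) ∈ D.borelSubgroup F := pos_le_borel G (hB hx)
    have e : (G.full.x s.val 1 * b) * n * u = b * n * (u * G.full.x s.val 1) := by
      calc (G.full.x s.val 1 * b) * n * u = G.full.x s.val 1 * (b * n * u) := by group
        _ = b * n * u * G.full.x s.val 1 := (h _ s.isLt).symm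
        _ = _ := by group
    obtain ⟨-, h2⟩ := (G.canonical_unique (mul_mem hxb hb) hb hn hn hL hL hu (mul_mem hu hx) e).2 rfl
    exact one_ne_zero (G.x_eq_one s.isLt (left_eq_mul.mp h2 : G.full.x s.val (1 : F) = 1))
  have hnd : n ∈ D.diagonalSubgroup F := G.mem_diagonal_of_pos hn hL hpos
  have hgB : b * n * u ∈ D.borelSubgroup F :=
    mul_mem (mul_mem hb (Subgroup.mem_sup_right hnd)) (pos_le_borel G (hB hu))
  obtain ⟨n₀, hn₀, hconj, hcomm⟩ : ∃ n₀ ∈ D.monomialSubgroup F,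
      (D.posUnipotent F).map (MulAut.conj n₀).toMonoidHom ≤ D.negUnipotent F ∧
        n₀ * (b * n * u) = b * n * u * n₀ := by
    obtain ⟨L₀, hL₀⟩ := G.exists_longest
    refine ⟨_, G.nw_mem_monomial L₀, ?_, ?_⟩
    · rintro _ ⟨v, hv, rfl⟩
      rw [SetLike.mem_coe, G.posUnipotent_eq] at hv
      rw [G.negUnipotent_eq]
      exact G.conj_x_act (G.rootAct_nw L₀) (S' := {r | r < D.nroots ∧ ¬ D.nroots ≤ 2 * r})
        (fun s hs => ⟨hs.1, ⟨Fin.isLt _, fun h' => hL₀ ⟨s, hs.1⟩ hs ⟨Fin.isLt _, h'⟩⟩⟩) hv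
    · exact Subgroup.mem_centralizer_singleton_iff.mp (G.nw_mem_of_ones (F := F)
        (K := Subgroup.centralizer {b * n * u}) (fun r hr => Subgroup.mem_centralizer_singleton_iff.mpr
          (h r hr).symm) L₀)
  obtain ⟨v, hv, c, hvc⟩ := G.mem_borel.mp hgB
  have hc : T.hT F c ∈ D.diagonalSubgroup F := by rw [G.full.diagonal_eq_range]; exact ⟨c, rfl⟩
  have hgH : b * n * u ∈ D.diagonalSubgroup F := by
    rw [← G.borel_inf_neg_torus]
    refine Subgroup.mem_inf.mpr ⟨hgB, ?_⟩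
    have e : b * n * u = n₀ * v * n₀⁻¹ * (n₀ * T.hT F c * n₀⁻¹) := by
      rw [show n₀ * v * n₀⁻¹ * (n₀ * T.hT F c * n₀⁻¹) = n₀ * (v * T.hT F c) * n₀⁻¹ by group, ← hvc,
        hcomm, mul_inv_cancel_right]
    rw [e]
    refine mul_mem (Subgroup.mem_sup_left (hconj ⟨v, hv, rfl⟩)) (Subgroup.mem_sup_right ?_)
    exact G.diagonal_normal.conj_mem ⟨_, G.hT_mem_monomial c⟩ hc ⟨n₀, hn₀⟩
  rw [G.full.diagonal_eq_range] at hgH
  obtain ⟨d, hd⟩ := hgH
  rw [← hd] at h ⊢
  refine (G.full.hT_eq_one_iff d).mpr fun j hj => Units.ext ?_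
  have hj' := G.full.simple_lt hj
  have e := G.full.hT_conj hj' d (1 : F)
  rw [h _ hj', mul_inv_cancel_right, mul_one] at e
  have e2 : G.full.x (D.simple j) ((T.chi (F := F) (D.simple j) d : F) + -1) = 1 := by
    rw [← G.full.x_add, ← e, ← G.full.x_inv, mul_inv_cancel]
  have := G.x_eq_one hj' e2
  rw [Units.val_one]
  linear_combination this

theorem x_mem_fixRoots {σ : F →+* F} {t : F} (ht : σ t = t) (r : ℕ) :
    G.full.x r t ∈ fixRoots D σ :=
  Subgroup.subset_closure ⟨r, t, ht, G.full.coe_x' r t⟩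

theorem fixDiag_le_normalizer (σ : F →+* F) :
    fixDiag D σ ≤ Subgroup.normalizer (fixRoots D σ : Set (GL D.Idx F)) := by
  have key : ∀ h ∈ fixDiag D σ, ∀ x ∈ fixRoots D σ, h * x * h⁻¹ ∈ fixRoots D σ := by
    rintro h ⟨hd, hσ⟩ x hx
    rw [SetLike.mem_coe, G.full.diagonal_eq_range] at hd
    obtain ⟨c, rfl⟩ := hd
    have hfix : glMap D σ (T.hT F c) = T.hT F c := hσ
    refine (Subgroup.closure_le (K := (fixRoots D σ).comap
      (MulAut.conj (T.hT F c)).toMonoidHom)).mpr ?_ hx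
    rintro _ ⟨s, t, ht, hg⟩
    rw [G.full.eq_x] at hg
    subst hg
    show T.hT F c * G.full.x s t * (T.hT F c)⁻¹ ∈ fixRoots D σ
    by_cases hs : s < D.nroots
    · rw [G.full.hT_conj hs]
      refine G.x_mem_fixRoots ?_ s
      have h1 := congrFun (congrFun (congrArg (fun g : GL D.Idx F =>
        (g : Matrix D.Idx D.Idx F)) hfix) (Sum.inr ⟨s, hs⟩)) (Sum.inr ⟨s, hs⟩)
      simp only [glMap_coe, RingHom.mapMatrix_apply, Matrix.map_apply, T.coe_hT,
        Matrix.diagonal_apply_eq] at h1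
      rw [map_mul, ht]
      congr 1
    · simp [Full.x, hs]
  intro h hh
  rw [Subgroup.mem_normalizer_iff]
  refine fun x => ⟨key h hh x, fun hx => ?_⟩
  have := key h⁻¹ (inv_mem hh) _ hx
  simpa [mul_assoc] using this

/-- A fixed element is a fixed root product times a fixed diagonal element. -/
theorem exists_fix_decomp {σ : F →+* F} {g : GL D.Idx F} (hg : g ∈ D.group F)
    (hσg : glMap D σ g = g) : ∃ l ∈ fixRoots D σ, ∃ h ∈ fixDiag D σ, g = l * h := by
  obtain ⟨v, hv, c, L, u, hu, rfl⟩ := G.normal_form hg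
  have hσv : glMap D σ v ∈ D.posUnipotent F := by
    rw [G.posUnipotent_eq] at hv ⊢; exact G.glMap_US σ hv
  set c' : Fin D.rank → Fˣ := fun i => Units.map σ.toMonoidHom (c i)
  simp only [map_mul, G.glMap_nw, G.glMap_hT] at hσg
  have hh : ∀ d : Fin D.rank → Fˣ, T.hT F d ∈ D.diagonalSubgroup F := fun d => by
    rw [G.full.diagonal_eq_range]; exact ⟨d, rfl⟩
  have hn := G.nw_mem_monomial (F := F) L
  obtain ⟨hb, hu'⟩ := (G.canonical_unique (mul_mem (Subgroup.mem_sup_left hσv)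
    (Subgroup.mem_sup_right (hh c'))) (mul_mem (Subgroup.mem_sup_left hv)
    (Subgroup.mem_sup_right (hh c))) hn hn (G.rootAct_nw L) (G.rootAct_nw L) (G.glMap_US σ hu) hu
    hσg).2 rfl
  have hm : v⁻¹ * glMap D σ v ∈ D.posUnipotent F ⊓ D.diagonalSubgroup F := by
    refine Subgroup.mem_inf.mpr ⟨mul_mem (inv_mem hv) hσv, ?_⟩
    have e : v⁻¹ * glMap D σ v = T.hT F c * (T.hT F c')⁻¹ := by
      rw [eq_mul_inv_iff_mul_eq, mul_assoc, hb, inv_mul_cancel_left]
    rw [e]
    exact mul_mem (hh c) (inv_mem (hh c'))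
  rw [G.pos_inf_diagonal, Subgroup.mem_bot, inv_mul_eq_one] at hm
  rw [← hm] at hb
  have hc : glMap D σ (T.hT F c) = T.hT F c := by rw [G.glMap_hT]; exact mul_left_cancel hb
  have key : ∀ S : Set ℕ, T.Closed S → ∀ w ∈ G.US F S, glMap D σ w = w → w ∈ fixRoots D σ := by
    intro S hS w hw hσw
    rw [← SetLike.mem_coe, G.US_eq_range hS] at hw
    obtain ⟨a, rfl⟩ := hw
    rw [G.glMap_segProd] at hσw
    have hr : ∀ r ∈ S, σ (a r) = a r := fun r hr =>
      G.segProd_injective hS D.nroots 0 _ _ (zero_add _) hσw r hr (Nat.zero_le r)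
    clear hσw
    suffices H : ∀ m k, G.segProd S a k m ∈ fixRoots D σ from H _ _
    intro m
    induction m with
    | zero => intro k; simp only [segProd]; exact one_mem _
    | succ m ih =>
      intro k
      simp only [segProd]
      refine mul_mem ?_ (ih _)
      split_ifs with hk
      · exact G.x_mem_fixRoots (hr k hk) k
      · exact one_mem _
  have hvL := key _ G.closed_pos v (by rw [← G.posUnipotent_eq]; exact hv) hm.symm
  have hnu : G.full.nw F L * u ∈ fixRoots D σ :=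
    mul_mem (G.nw_mem_of_ones (fun r _ => G.x_mem_fixRoots (map_one σ) r) L)
      (key _ (G.closed_flip L) u hu hu')
  refine ⟨v * (T.hT F c * (G.full.nw F L * u) * (T.hT F c)⁻¹), mul_mem hvL ?_,
    T.hT F c, ⟨hh c, hc⟩, by group⟩
  exact (Subgroup.mem_normalizer_iff.mp (G.fixDiag_le_normalizer σ ⟨hh c, hc⟩) _).mp hnu

/-- Fixed elements commute modulo the fixed root products. -/
theorem commutator_mem_fixRoots {σ : F →+* F} {a b : GL D.Idx F} (ha : a ∈ D.group F)
    (ha' : glMap D σ a = a) (hb : b ∈ D.group F) (hb' : glMap D σ b = b) :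
    a * b * a⁻¹ * b⁻¹ ∈ fixRoots D σ := by
  obtain ⟨l, hl, h, hh, rfl⟩ := G.exists_fix_decomp ha ha'
  obtain ⟨m, hm, k, hk, rfl⟩ := G.exists_fix_decomp hb hb'
  have hhk : h * k = k * h := G.full.diagonal_isMulCommutative h k hh.1 hk.1
  have n1 := (Subgroup.mem_normalizer_iff.mp (G.fixDiag_le_normalizer σ hh) m).mp hm
  have n2 := (Subgroup.mem_normalizer_iff.mp (G.fixDiag_le_normalizer σ hk) l⁻¹).mp (inv_mem hl)
  have e : l * h * (m * k) * (l * h)⁻¹ * (m * k)⁻¹ =
      l * (h * m * h⁻¹) * (k * l⁻¹ * k⁻¹) * m⁻¹ := by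
    calc l * h * (m * k) * (l * h)⁻¹ * (m * k)⁻¹
        = l * (h * m * h⁻¹) * ((h * k) * h⁻¹ * l⁻¹ * k⁻¹) * m⁻¹ := by group
      _ = l * (h * m * h⁻¹) * ((k * h) * h⁻¹ * l⁻¹ * k⁻¹) * m⁻¹ := by rw [hhk]
      _ = _ := by group
  rw [e]
  exact mul_mem (mul_mem (mul_mem hl n1) n2) (inv_mem hm)

/-- The centraliser and normaliser of a group between the fixed root elements and the fixed group. -/
theorem centralizer_normalizer_fix {σ : F →+* F} {K : Subgroup (GL D.Idx F)}
    (hKG : K ≤ D.group F) (hLK : fixRoots D σ ≤ K) (hKfix : ∀ g ∈ K, glMap D σ g = g) :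
    D.group F ⊓ Subgroup.centralizer (K : Set (GL D.Idx F)) = ⊥ ∧
      ∀ g : GL D.Idx F, g ∈ D.group F →
        (g ∈ Subgroup.normalizer (K : Set (GL D.Idx F)) ↔ glMap D σ g = g) := by
  have hcen : ∀ g ∈ D.group F, (∀ y ∈ K, y * g = g * y) → g = 1 := fun g hg h =>
    G.eq_one_of_commute_ones hg fun r _ =>
      (h _ (hLK (G.x_mem_fixRoots (map_one σ) r))).symm
  refine ⟨(Subgroup.eq_bot_iff_forall _).mpr fun g hg =>
    hcen g hg.1 fun y hy => Subgroup.mem_centralizer_iff.mp hg.2 y hy, fun g hg => ⟨fun hn => ?_, fun hfix => ?_⟩⟩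
  · have hσg : glMap D σ g ∈ D.group F := G.glMap_group σ hg
    refine (inv_mul_eq_one.mp (hcen _ (mul_mem (inv_mem hg) hσg) fun y hy => ?_)).symm
    have h1 := hKfix _ ((Subgroup.mem_normalizer_iff.mp hn y).mp hy)
    rw [map_mul, map_mul, map_inv, hKfix y hy] at h1
    calc y * (g⁻¹ * glMap D σ g) = g⁻¹ * (g * y * g⁻¹) * glMap D σ g := by group
      _ = g⁻¹ * (glMap D σ g * y * (glMap D σ g)⁻¹) * glMap D σ g := by rw [h1]
      _ = _ := by group
  · rw [Subgroup.mem_normalizer_iff]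
    have key : ∀ g ∈ D.group F, glMap D σ g = g → ∀ y ∈ K, g * y * g⁻¹ ∈ K := fun g hg hfix y hy => by
      have := mul_mem (hLK (G.commutator_mem_fixRoots hg hfix (hKG hy) (hKfix y hy))) hy
      rwa [inv_mul_cancel_right] at this
    refine fun y => ⟨key g hg hfix y, fun hy => ?_⟩
    have := key g⁻¹ (inv_mem hg) (by rw [map_inv, hfix]) _ hy
    simpa [mul_assoc] using this

end Good

end Tab

end CfsgLib.Chev
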