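import Cfsg.Agent.ChevAut.SimpleRoots

/-! The diagram permutation of an automorphism fixing `U` and `V`. -/

set_option autoImplicit false

namespace CfsgLib.Chev

open Cfsg.Lie Matrix
open scoped MatrixGroups

namespace Tab

variable {D : ChevalleyDatum} {F : Type*} [Field F]

/-- `θ` carries the subgroup `K` onto `K'`. -/
def Carries (θ : ↥(D.group F) ≃* ↥(D.group F)) (K K' : Subgroup (GL D.Idx F)) : Prop :=
  ∀ g ∈ D.group F, gA θ g ∈ K' ↔ g ∈ K

namespace Good

variable {T : Tab D} (G : T.Good)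
include G

theorem simple_inj_of_cor {i j : Fin D.rank} (h : D.simple i = D.simple j) : i = j := by
  have h1 := G.cor_simple i i
  rw [show G.full.simp' i = G.full.simp' j from Fin.ext h, G.cor_simple] at h1
  by_contra hne
  simp [hne] at h1

theorem negR_simple_inj {i j : Fin D.rank} (h : negR D (D.simple i) = negR D (D.simple j)) :
    i = j := by
  refine G.simple_inj_of_cor ?_
  rw [← Cert.negR_negR (D := D) (G.full.simple_lt i.isLt), h,
    Cert.negR_negR (G.full.simple_lt j.isLt)]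

theorem eq_of_x_one_mem {r s : ℕ} (hr : r < D.nroots) (hs : s < D.nroots)
    (h : G.full.x r (1 : F) ∈ D.rootSubgroup F s) : r = s := by
  obtain ⟨u, hu⟩ := G.mem_rootSubgroup.mp h
  exact G.x_inj_root hr hs one_ne_zero hu

theorem carries_Pm {θ : ↥(D.group F) ≃* ↥(D.group F)} (h : FixUV θ) (i : Fin D.rank) :
    ∃ j, Carries θ (G.Pm F i) (G.Pm F j) := by
  have hiG := G.ns_mem_group (F := F) i
  let K : Subgroup (GL D.Idx F) :=
    { carrier := {g | g ∈ D.group F ∧ gA θ.symm g ∈ G.Pm F i}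
      mul_mem' := fun ha hb => ⟨mul_mem ha.1 hb.1, by
        rw [gA_mul θ.symm ha.1 hb.1]; exact mul_mem ha.2 hb.2⟩
      one_mem' := ⟨one_mem _, by rw [gA_one]; exact one_mem _⟩
      inv_mem' := fun ha => ⟨inv_mem ha.1, by rw [gA_inv θ.symm ha.1]; exact inv_mem ha.2⟩ }
  have hBK : D.borelSubgroup F ≤ K := fun b hb =>
    ⟨G.borel_le_group hb, G.borel_le_Pm i ((G.fixUV_borel h.symm (G.borel_le_group hb)).mpr hb)⟩
  obtain ⟨j, hj⟩ := G.exists_ns_mem hBK ⟨gA θ (G.full.ns F i), gA_mem θ hiG,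
    ⟨gA_mem θ hiG, by rw [gA_symm' θ hiG]; exact G.ns_mem_Pm i⟩,
    fun hc => G.ns_notMem_borel i ((G.fixUV_borel h hiG).mp hc)⟩
  have hle : G.Pm F j ≤ K := G.Pm_le_iff j hBK hj
  let K' : Subgroup (GL D.Idx F) :=
    { carrier := {g | g ∈ D.group F ∧ gA θ g ∈ G.Pm F j}
      mul_mem' := fun ha hb => ⟨mul_mem ha.1 hb.1, by
        rw [gA_mul θ ha.1 hb.1]; exact mul_mem ha.2 hb.2⟩
      one_mem' := ⟨one_mem _, by rw [gA_one]; exact one_mem _⟩
      inv_mem' := fun ha => ⟨inv_mem ha.1, by rw [gA_inv θ ha.1]; exact inv_mem ha.2⟩ }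
  have hBK' : D.borelSubgroup F ≤ K' := fun b hb =>
    ⟨G.borel_le_group hb, G.borel_le_Pm j ((G.fixUV_borel h (G.borel_le_group hb)).mpr hb)⟩
  have hjG := G.ns_mem_group (F := F) j
  obtain ⟨k, hk⟩ := G.exists_ns_mem hBK' ⟨gA θ.symm (G.full.ns F j), gA_mem θ.symm hjG,
    ⟨gA_mem θ.symm hjG, by rw [gA_symm θ hjG]; exact G.ns_mem_Pm j⟩,
    fun hc => G.ns_notMem_borel j ((G.fixUV_borel h.symm hjG).mp hc)⟩
  have hki : k = i := by
    refine G.eq_of_ns_mem_Pm (F := F) ?_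
    have := (hle hk.2).2
    rwa [gA_symm' θ hk.1] at this
  subst hki
  refine ⟨j, fun g hg => ⟨fun hgj => ?_, fun hgi => (G.Pm_le_iff k hBK' hk hgi).2⟩⟩
  have := (hle hgj).2
  rwa [gA_symm' θ hg] at this

/-- The negatives of the fundamental roots are permuted. -/
theorem carries_neg {θ : ↥(D.group F) ≃* ↥(D.group F)} (h : FixUV θ) :
    ∃ π : Equiv.Perm (Fin D.rank), ∀ i : Fin D.rank,
      Carries θ (D.rootSubgroup F (negR D (D.simple i)))
        (D.rootSubgroup F (negR D (D.simple (π i)))) := by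
  choose π hπ using G.carries_Pm h
  have hinj : Function.Injective π := fun a b e => by
    refine G.eq_of_ns_mem_Pm (F := F) ((hπ b _ (G.ns_mem_group a)).mp ?_)
    rw [← e]
    exact (hπ a _ (G.ns_mem_group a)).mpr (G.ns_mem_Pm a)
  refine ⟨Equiv.ofBijective π (Finite.injective_iff_bijective.mp hinj), fun i g hg => ?_⟩
  rw [Equiv.ofBijective_apply, ← G.Pm_inf_neg, ← G.Pm_inf_neg, hπ i g hg, h.neg g hg]

theorem map_conj_root {n : GL D.Idx F} {σ : Equiv.Perm (Fin D.nroots)}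
    (hσ : G.full.RootAct n σ) (s : Fin D.nroots) (g : GL D.Idx F) :
    n * g * n⁻¹ ∈ D.rootSubgroup F (σ s).val ↔ g ∈ D.rootSubgroup F s.val := by
  obtain ⟨c, hc⟩ := hσ
  constructor
  · intro h
    obtain ⟨u, hu⟩ := G.mem_rootSubgroup.mp h
    refine G.mem_rootSubgroup.mpr ⟨((c s)⁻¹ : Fˣ) * u, ?_⟩
    have e := (hc s).2.2.2 (((c s)⁻¹ : Fˣ) * u)
    rw [← mul_assoc, Units.mul_inv, one_mul, ← hu] at e
    exact (mul_left_cancel (mul_right_cancel e)).symm
  · intro h
    obtain ⟨u, rfl⟩ := G.mem_rootSubgroup.mp h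
    exact G.mem_rootSubgroup.mpr ⟨_, (hc s).2.2.2 u⟩

/-- The longest element, which sends the negative fundamental roots to the fundamental ones. -/
theorem exists_swap :
    ∃ n ∈ D.group F, ∃ κ : Equiv.Perm (Fin D.rank),
      (∀ g, n * g * n⁻¹ ∈ D.negUnipotent F ↔ g ∈ D.posUnipotent F) ∧
      (∀ g, n * g * n⁻¹ ∈ D.posUnipotent F ↔ g ∈ D.negUnipotent F) ∧
      ∀ (i : Fin D.rank) g, n * g * n⁻¹ ∈ D.rootSubgroup F (D.simple (κ i)) ↔
        g ∈ D.rootSubgroup F (negR D (D.simple i)) := by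
  obtain ⟨n, hn, σ₀, hσ₀, hlong⟩ := G.exists_longest_elem (F := F)
  obtain ⟨L, hL⟩ := G.exists_rootAct hn
  have e := G.rootAct_unique hσ₀ hL
  subst e
  set σ := G.full.pw L with hσ
  have hsymm : ∀ (r : Fin D.nroots) (u : F), ∃ w,
      G.full.x r.val u = n * G.full.x (σ.symm r).val w * n⁻¹ := by
    intro r u
    obtain ⟨c, hc⟩ := hL
    refine ⟨((c (σ.symm r))⁻¹ : Fˣ) * u, ?_⟩
    rw [(hc (σ.symm r)).2.2.2, ← mul_assoc, Units.mul_inv, one_mul, Equiv.apply_symm_apply]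
  have key : ∀ (S S' : Set ℕ), (∀ s ∈ S, ∃ h : s < D.nroots, (σ ⟨s, h⟩).val ∈ S') →
      (∀ r ∈ S', ∃ h : r < D.nroots, (σ.symm ⟨r, h⟩).val ∈ S) →
      ∀ g, n * g * n⁻¹ ∈ G.US F S' ↔ g ∈ G.US F S := by
    intro S S' h1 h2 g
    refine ⟨fun hg => ?_, fun hg => G.conj_x_act hL h1 hg⟩
    have hle : G.US F S' ≤ (G.US F S).map (MulAut.conj n).toMonoidHom := by
      conv_lhs => rw [Good.US]
      rw [Subgroup.closure_le]
      rintro _ ⟨r, hr, u, rfl⟩
      obtain ⟨hlt, hm⟩ := h2 r hr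
      obtain ⟨w, hw⟩ := hsymm ⟨r, hlt⟩ u
      exact ⟨_, G.x_mem_US hm w, hw.symm⟩
    obtain ⟨w, hw, ew⟩ := hle hg
    have : w = g := mul_left_cancel (mul_right_cancel ew)
    exact this ▸ hw
  have hto : ∀ s : Fin D.nroots, ¬ IsPos D (σ.symm s).val ↔ IsPos D s.val := fun s => by
    have := hlong (σ.symm s)
    rw [Equiv.apply_symm_apply] at this
    rw [this, not_not]
  have hpn : ∀ g, n * g * n⁻¹ ∈ D.negUnipotent F ↔ g ∈ D.posUnipotent F := by
    rw [G.posUnipotent_eq, G.negUnipotent_eq]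
    refine key _ _ (fun s hs => ⟨hs.1, Fin.isLt _, fun h => (hlong ⟨s, hs.1⟩).mp hs ⟨Fin.isLt _, h⟩⟩)
      (fun r hr => ⟨hr.1, ?_⟩)
    by_contra h
    exact hr.2 ((hto ⟨r, hr.1⟩).mp h).2
  have hnp : ∀ g, n * g * n⁻¹ ∈ D.posUnipotent F ↔ g ∈ D.negUnipotent F := by
    rw [G.posUnipotent_eq, G.negUnipotent_eq]
    refine key _ _ (fun s hs => ⟨hs.1, ?_⟩)
      (fun r hr => ⟨hr.1, Fin.isLt _, fun h => (hto ⟨r, hr.1⟩).mpr hr ⟨Fin.isLt _, h⟩⟩)
    by_contra h
    exact hs.2 ((hlong ⟨s, hs.1⟩).mpr h).2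
  -- images of the negative fundamental roots are fundamental
  have hsimple : ∀ i : Fin D.rank, ∃ j : Fin D.rank,
      (σ (negF (G.full.simp' i))).val = D.simple j := by
    intro i
    set τ := σ * G.full.refl i * σ⁻¹ with hτ
    have hτW : τ ∈ G.full.WJ (List.range D.rank) :=
      mul_mem (mul_mem (G.pw_mem_full L) (G.refl_mem_full i)) (inv_mem (G.pw_mem_full L))
    set R := σ (negF (G.full.simp' i)) with hR
    have hflip : ∀ s, IsPos D s.val → ¬ IsPos D (τ s).val → s = R := by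
      intro s hs hts
      have h1 : ¬ IsPos D (σ.symm s).val := (hto s).mpr hs
      have h2 : IsPos D (G.full.refl i (σ.symm s)).val := by
        by_contra h
        have := (hto (τ s)).mp (by rw [hτ]; simpa using h)
        exact hts this
      by_contra hne
      have h3 : negF (σ.symm s) ≠ G.full.simp' i := fun e => hne (by
        rw [hR, ← e, negF_negF, Equiv.apply_symm_apply])
      have h4 := (G.refl_pos i (G.pos_negF.mpr h1) h3).1
      rw [G.negF_WJ (G.refl_mem_full i), G.pos_negF] at h4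
      exact h4 h2
    have hRp : IsPos D R.val := by
      have := (hto R).mp (by
        rw [hR, Equiv.symm_apply_apply]
        exact fun h => G.pos_negF.mp h (G.pos_simp i))
      exact this
    have hRn : ¬ IsPos D (τ R).val := by
      have e : τ R = σ (G.full.simp' i) := by
        rw [hτ, hR]
        simp only [Equiv.Perm.mul_apply, Equiv.Perm.inv_def, Equiv.symm_apply_apply]
        rw [G.negF_WJ (G.refl_mem_full i), G.refl_simp, negF_negF]
      rw [e]
      exact (hlong _).mp (G.pos_simp i)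
    obtain ⟨l, -, hl⟩ := G.exists_flip_simple hτW (mem_inv.mpr ⟨hRp, hRn⟩)
    exact ⟨l, (congrArg Fin.val (hflip _ (G.pos_simp l) hl)).symm⟩
  choose κ hκ using hsimple
  have hinj : Function.Injective κ := fun a b e => by
    refine G.negR_simple_inj ?_
    have : σ (negF (G.full.simp' a)) = σ (negF (G.full.simp' b)) := Fin.ext (by rw [hκ, hκ, e])
    exact congrArg Fin.val (σ.injective this)
  refine ⟨n, G.monomial_le_group hn, Equiv.ofBijective κ (Finite.injective_iff_bijective.mp hinj),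
    hpn, hnp, fun i g => ?_⟩
  rw [Equiv.ofBijective_apply, ← hκ]
  exact G.map_conj_root hL _ g

theorem not_commute_simple (i : Fin D.rank) :
    ¬ Commute (G.full.x (D.simple i) (1 : F)) (G.full.x (negR D (D.simple i)) 1) := by
  intro hc
  set p := D.simple i
  have e := G.x_neg_decomp (F := F) p one_ne_zero
  rw [inv_one, G.full.nr_simple_eq i.isLt] at e
  obtain ⟨d, hd⟩ := G.hr_simple_mem (F := F) i (t := -1) (neg_ne_zero.mpr one_ne_zero)
  rw [hd] at e
  have hx : ∀ t : F, G.full.x p t ∈ D.posUnipotent F := fun t => G.x_mem_pos (G.pos_simp i) t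
  have hfl : ∀ t : F, G.full.x p t ∈ G.US F (flipSet (G.full.refl i)) := fun t => by
    rw [G.flip_refl i]; exact G.x_mem_US (Set.mem_singleton _) t
  have e1 : G.full.x p 1 * G.full.x p 1 * T.hT F d * G.full.ns F i * G.full.x p 1 =
      G.full.x p 1 * T.hT F d * G.full.ns F i * G.full.x p 2 := by
    have := hc.eq
    rw [e] at this
    rw [show (2 : F) = 1 + 1 from one_add_one_eq_two.symm, ← G.full.x_add]
    simpa only [mul_assoc] using this
  obtain ⟨-, h2⟩ := G.canonical_unique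
    (mul_mem (G.pos_le_borel (mul_mem (hx _) (hx _))) (G.borel_hT d))
    (mul_mem (G.pos_le_borel (hx _)) (G.borel_hT d)) (G.ns_mem_monomial i) (G.ns_mem_monomial i)
    (G.rootAct_ns i) (G.rootAct_ns i) (hfl 1) (hfl 2) e1
  have h3 : G.full.x p (1 : F) = G.full.x p 2 := (h2 rfl).2
  have h4 : G.full.x p (1 : F) = 1 := by
    have h5 := h3
    rw [show (2 : F) = 1 + 1 from one_add_one_eq_two.symm, ← G.full.x_add, left_eq_mul] at h5
    exact h5
  exact one_ne_zero (G.x_eq_one (G.full.simple_lt i.isLt) h4)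

/-- An automorphism fixing `U` and `V` induces a permutation of the nodes. -/
theorem exists_perm (hopp : T.chkOpp = true) {θ : ↥(D.group F) ≃* ↥(D.group F)} (h : FixUV θ) :
    ∃ π : Equiv.Perm (Fin D.rank), ∀ i : Fin D.rank,
      Carries θ (D.rootSubgroup F (D.simple i)) (D.rootSubgroup F (D.simple (π i))) ∧
      Carries θ (D.rootSubgroup F (negR D (D.simple i)))
        (D.rootSubgroup F (negR D (D.simple (π i)))) := by
  obtain ⟨π, hπ⟩ := G.carries_neg h
  obtain ⟨n, hn, κ, hpn, hnp, hκ⟩ := G.exists_swap (F := F)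
  let θ' : ↥(D.group F) ≃* ↥(D.group F) :=
    (MulAut.conj ⟨n, hn⟩).trans (θ.trans (MulAut.conj ⟨n, hn⟩⁻¹))
  have hθ' : ∀ g ∈ D.group F, gA θ (n * g * n⁻¹) = n * gA θ' g * n⁻¹ := fun g hg => by
    rw [gA_eq θ' hg, gA_eq θ (mul_mem (mul_mem hn hg) (inv_mem hn))]
    show _ = n * (n⁻¹ * (θ ⟨n * g * n⁻¹, mul_mem (mul_mem hn hg) (inv_mem hn)⟩ : GL D.Idx F) *
      n⁻¹⁻¹) * n⁻¹
    group
  have hfix : FixUV θ' := ⟨fun g hg => by
      rw [← hpn, ← hθ' g hg, h.neg _ (mul_mem (mul_mem hn hg) (inv_mem hn)), hpn],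
    fun g hg => by
      rw [← hnp, ← hθ' g hg, h.pos _ (mul_mem (mul_mem hn hg) (inv_mem hn)), hnp]⟩
  obtain ⟨π', hπ'⟩ := G.carries_neg hfix
  have hplus : ∀ i : Fin D.rank, Carries θ (D.rootSubgroup F (D.simple (κ i)))
      (D.rootSubgroup F (D.simple (κ (π' i)))) := by
    intro i g hg
    have hm : n⁻¹ * g * n ∈ D.group F := mul_mem (mul_mem (inv_mem hn) hg) hn
    have h2 := hπ' i _ hm
    rw [← hκ (π' i), ← hκ i, ← hθ' _ hm, show n * (n⁻¹ * g * n) * n⁻¹ = g by group] at h2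
    exact h2
  -- the two permutations agree
  have hagree : ∀ i, κ (π' (κ.symm i)) = π i := by
    intro i
    by_contra hne
    have hG : ∀ r (t : F), G.full.x r t ∈ D.group F := fun r t => G.x_mem_group r t
    have h1 := (hplus (κ.symm i) _ (hG _ 1)).mpr (by
      rw [Equiv.apply_symm_apply]; exact G.mem_rootSubgroup.mpr ⟨1, rfl⟩)
    have h2 := (hπ i _ (hG _ 1)).mpr (G.mem_rootSubgroup.mpr ⟨1, rfl⟩)
    obtain ⟨u, hu⟩ := G.mem_rootSubgroup.mp h1
    obtain ⟨w, hw⟩ := G.mem_rootSubgroup.mp h2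
    have hchk : T.chkCommute 0 (D.simple (κ (π' (κ.symm i))))
        (negR D (D.simple (π i))) = true := by
      have h3 := hopp
      simp only [chkOpp, allBelow_iff, Bool.or_eq_true, Nat.beq_eq] at h3
      exact (h3 _ (Fin.isLt _) _ (Fin.isLt _)).resolve_left fun e => hne (Fin.ext e)
    have hc : Commute (gA θ (G.full.x (D.simple i) 1))
        (gA θ (G.full.x (negR D (D.simple i)) 1)) := by
      rw [hu, hw]; exact G.x_commute (p := 0) Nat.cast_zero hchk u w
    refine G.not_commute_simple (F := F) i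
      (gA_inj θ (mul_mem (hG _ _) (hG _ _)) (mul_mem (hG _ _) (hG _ _)) ?_)
    rw [gA_mul θ (hG _ _) (hG _ _), gA_mul θ (hG _ _) (hG _ _)]
    exact hc.eq
  refine ⟨π, fun i => ⟨?_, hπ i⟩⟩
  have := hplus (κ.symm i)
  rwa [hagree, Equiv.apply_symm_apply] at this

end Good

end Tab

end CfsgLib.Chev
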