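import Cfsg.Agent.ChevAut.Relations
import Cfsg.Agent.ChevAut.SimplePerm
import Cfsg.Agent.Chev.GoodAll

/-! The automorphism checks, type E8. -/

set_option autoImplicit false

namespace CfsgLib.Chev

open Cfsg.Lie

theorem aut_E8 : E8Data.tab.chkAut = true := by decide +kernel

end CfsgLib.Chev
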