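import Cfsg.Agent.ChevAut.Relations
import Cfsg.Agent.ChevAut.SimplePerm
import Cfsg.Agent.Chev.GoodAll

/-! The automorphism checks, small types. -/

set_option autoImplicit false

namespace CfsgLib.Chev

open Cfsg.Lie

theorem aut_G2 : G2Data.tab.chkAut = true := by decide +kernel

theorem aut_B2 : B2Data.tab.chkAut = true := by decide +kernel

theorem aut_D4 : D4Data.tab.chkAut = true := by decide +kernel

theorem aut_F4 : F4Data.tab.chkAut = true := by decide +kernel

theorem aut_E6 : E6Data.tab.chkAut = true := by decide +kernel

theorem aut_E7 : E7Data.tab.chkAut = true := by decide +kernel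


end CfsgLib.Chev
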