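import Cfsg.Agent.Chev.Tab
import Cfsg.Prelude.Def_ChevG2
import Cfsg.Prelude.Def_ChevB2
import Cfsg.Prelude.Def_ChevD4
import Cfsg.Prelude.Def_ChevF4
import Cfsg.Prelude.Def_ChevE6
import Cfsg.Prelude.Def_ChevE7
import Cfsg.Prelude.Def_ChevE8
import Cfsg.Prelude.Def_ChevAutomorphisms

/-! Listing the symmetries of a diagram by backtracking. -/

set_option autoImplicit false

namespace CfsgLib.Chev

open Cfsg.Lie

/-- The values of a permutation of the nodes. -/
def permVals {n : ℕ} (π : Equiv.Perm (Fin n)) : List ℕ := List.ofFn fun i => (π i).val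

/-- An entry of a bond table. -/
def bondAt (B : List (List ℤ)) (i j : ℕ) : ℤ := (B.getD i []).getD j 0

/-- The table lists the bonds. -/
def chkBondTbl (D : ChevalleyDatum) (B : List (List ℤ)) : Bool :=
  allBelow (fun i => allBelow (fun j => Nat.beq i j || decide (bondAt B i j = D.bonds i j)) D.rank)
    D.rank

/-- The extensions of a partial symmetry by one node. -/
def symStep (D : ChevalleyDatum) (B : List (List ℤ)) (pre : List ℕ) : List (List ℕ) :=
  ((List.range D.rank).filter fun v => !(pre.contains v) &&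
    allBelow (fun k => decide (bondAt B v (pre.getD k 0) = bondAt B pre.length k)) pre.length).map
      fun v => pre ++ [v]

/-- The partial symmetries of the first `n` nodes. -/
def symUpTo (D : ChevalleyDatum) (B : List (List ℤ)) : ℕ → List (List ℕ)
  | 0 => [[]]
  | n + 1 => (symUpTo D B n).flatMap (symStep D B)

theorem mem_symUpTo {D : ChevalleyDatum} {π : Equiv.Perm (Fin D.rank)}
    (h : D.IsDiagramSymmetry π) {B : List (List ℤ)} (hB : chkBondTbl D B = true) :
    ∀ n, n ≤ D.rank → (permVals π).take n ∈ symUpTo D B n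
  | 0, _ => by simp [symUpTo]
  | n + 1, hn => by
    have hlen : (permVals π).length = D.rank := by simp [permVals]
    have hpre : ((permVals π).take n).length = n := by simp [hlen]; omega
    rw [symUpTo, List.mem_flatMap]
    refine ⟨_, mem_symUpTo h hB n (by omega), ?_⟩
    simp only [symStep, List.mem_map, List.mem_filter, List.mem_range, Bool.and_eq_true,
      Bool.not_eq_true', allBelow_iff, decide_eq_true_eq]
    refine ⟨(π ⟨n, hn⟩).val, ⟨(π ⟨n, hn⟩).isLt, ?_, fun k hk => ?_⟩, ?_⟩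
    · rw [← Bool.not_eq_true, List.contains_iff_mem]
      intro hm
      obtain ⟨k, hk, e⟩ := List.getElem_of_mem hm
      have hk' : k < n := hpre ▸ hk
      rw [List.getElem_take] at e
      simp only [permVals, List.getElem_ofFn] at e
      exact absurd (congrArg Fin.val (π.injective (Fin.ext e))) (by simp; omega)
    · rw [hpre] at hk ⊢
      have hkr : k < D.rank := by omega
      have e : ((permVals π).take n).getD k 0 = (π ⟨k, hkr⟩).val := by
        rw [List.getD_eq_getElem _ _ (by rw [hpre]; exact hk), List.getElem_take]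
        simp [permVals]
      rw [e]
      simp only [chkBondTbl, allBelow_iff, Bool.or_eq_true, Nat.beq_eq, decide_eq_true_eq] at hB
      rw [(hB _ (Fin.isLt _) _ (Fin.isLt _)).resolve_left fun e =>
          absurd (congrArg Fin.val (π.injective (Fin.ext e))) (by simp; omega),
        (hB n hn k hkr).resolve_left (by omega)]
      exact h ⟨n, hn⟩ ⟨k, hkr⟩ (by simp [Fin.ext_iff]; omega)
    · rw [List.take_add_one]
      congr 1
      rw [List.getElem?_eq_getElem (by rw [hlen]; omega)]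
      simp [permVals]

theorem permVals_mem {D : ChevalleyDatum} {π : Equiv.Perm (Fin D.rank)}
    (h : D.IsDiagramSymmetry π) {B : List (List ℤ)} (hB : chkBondTbl D B = true) :
    permVals π ∈ symUpTo D B D.rank := by
  have := mem_symUpTo h hB D.rank le_rfl
  rwa [List.take_of_length_le (by simp [permVals])] at this

/-- Bonds, type G2. -/
def bondsG2 : List (List ℤ) := [[0, 3], [3, 0]]

theorem bonds_G2_eq : chkBondTbl chevG2 bondsG2 = true := by decide +kernel

/-- Bonds, type B2. -/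
def bondsB2 : List (List ℤ) := [[0, 2], [2, 0]]

theorem bonds_B2_eq : chkBondTbl chevB2 bondsB2 = true := by decide +kernel

/-- Bonds, type D4. -/
def bondsD4 : List (List ℤ) := [[0, 1, 0, 0], [1, 0, 1, 1], [0, 1, 0, 0], [0, 1, 0, 0]]

theorem bonds_D4_eq : chkBondTbl chevD4 bondsD4 = true := by decide +kernel

/-- Bonds, type F4. -/
def bondsF4 : List (List ℤ) := [[0, 1, 0, 0], [1, 0, 2, 0], [0, 2, 0, 1], [0, 0, 1, 0]]

theorem bonds_F4_eq : chkBondTbl chevF4 bondsF4 = true := by decide +kernel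

/-- Bonds, type E6. -/
def bondsE6 : List (List ℤ) := [[0, 0, 1, 0, 0, 0], [0, 0, 0, 1, 0, 0], [1, 0, 0, 1, 0, 0], [0, 1, 1, 0, 1, 0], [0, 0, 0, 1, 0, 1], [0, 0, 0, 0, 1, 0]]

theorem bonds_E6_eq : chkBondTbl chevE6 bondsE6 = true := by decide +kernel

/-- Bonds, type E7. -/
def bondsE7 : List (List ℤ) := [[0, 0, 1, 0, 0, 0, 0], [0, 0, 0, 1, 0, 0, 0], [1, 0, 0, 1, 0, 0, 0], [0, 1, 1, 0, 1, 0, 0], [0, 0, 0, 1, 0, 1, 0], [0, 0, 0, 0, 1, 0, 1], [0, 0, 0, 0, 0, 1, 0]]

theorem bonds_E7_eq : chkBondTbl chevE7 bondsE7 = true := by decide +kernel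

/-- Bonds, type E8. -/
def bondsE8 : List (List ℤ) := [[0, 0, 1, 0, 0, 0, 0, 0], [0, 0, 0, 1, 0, 0, 0, 0], [1, 0, 0, 1, 0, 0, 0, 0], [0, 1, 1, 0, 1, 0, 0, 0], [0, 0, 0, 1, 0, 1, 0, 0], [0, 0, 0, 0, 1, 0, 1, 0], [0, 0, 0, 0, 0, 1, 0, 1], [0, 0, 0, 0, 0, 0, 1, 0]]

theorem bonds_E8_eq : chkBondTbl chevE8 bondsE8 = true := by decide +kernel

theorem symList_G2 : symUpTo chevG2 bondsG2 chevG2.rank = [[0, 1], [1, 0]] := by decide +kernel

theorem symList_B2 : symUpTo chevB2 bondsB2 chevB2.rank = [[0, 1], [1, 0]] := by decide +kernel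

theorem symList_D4 : symUpTo chevD4 bondsD4 chevD4.rank =
    [[0, 1, 2, 3], [0, 1, 3, 2], [2, 1, 0, 3], [2, 1, 3, 0], [3, 1, 0, 2], [3, 1, 2, 0]] := by
  decide +kernel

theorem symList_F4 : symUpTo chevF4 bondsF4 chevF4.rank = [[0, 1, 2, 3], [3, 2, 1, 0]] := by decide +kernel

theorem symList_E6 : symUpTo chevE6 bondsE6 chevE6.rank =
    [[0, 1, 2, 3, 4, 5], [5, 1, 4, 3, 2, 0]] := by decide +kernel

theorem symList_E7 : symUpTo chevE7 bondsE7 chevE7.rank = [[0, 1, 2, 3, 4, 5, 6]] := by decide +kernel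

theorem symList_E8 : symUpTo chevE8 bondsE8 chevE8.rank = [[0, 1, 2, 3, 4, 5, 6, 7]] := by decide +kernel

end CfsgLib.Chev
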