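import Cfsg.Agent.ChevAut.Relations
import Cfsg.Agent.ChevAut.Symmetries
import Cfsg.Agent.Chev.GraphAuto
import Cfsg.Agent.S2161
import Mathlib.FieldTheory.Perfect

/-! Graph automorphisms for the symmetries which occur. -/

set_option autoImplicit false

namespace CfsgLib.Chev

open Cfsg.Lie Matrix
open scoped MatrixGroups

/-- The automorphism acts as the graph automorphism of the symmetry. -/
def GraphFor (D : ChevalleyDatum) {F : Type*} [Field F] (g : ↥(D.group F) ≃* ↥(D.group F))
    (π : Equiv.Perm (Fin D.rank)) : Prop :=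
  ∀ (y : ↥(D.group F)) (i : Fin D.rank) (t : F),
    (((y : GL D.Idx F) : Matrix D.Idx D.Idx F) = D.x F (D.simple i) t →
      ((g y : GL D.Idx F) : Matrix D.Idx D.Idx F) =
        D.x F (D.simple (π i)) (t ^ D.graphExp (ringChar F) i (π i))) ∧
    (((y : GL D.Idx F) : Matrix D.Idx D.Idx F) = D.x F (D.neg (D.simple i)) t →
      ((g y : GL D.Idx F) : Matrix D.Idx D.Idx F) =
        D.x F (D.neg (D.simple (π i))) (t ^ D.graphExp (ringChar F) i (π i)))

/-- The root map preserves positivity. -/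
def chkPosMap (D : ChevalleyDatum) (m : List (ℕ × ℤ × ℕ)) : Bool :=
  allBelow (fun r => decide (D.nroots ≤ 2 * r ↔ D.nroots ≤ 2 * (Tab.mapAt m r).1)) D.nroots

/-- An automorphism mapping `U` and `V` into themselves fixes them. -/
theorem fixUV_of_maps {D : ChevalleyDatum} {F : Type*} [Field F] [Finite F]
    {θ : ↥(D.group F) ≃* ↥(D.group F)}
    (hU : ∀ g ∈ D.group F, g ∈ D.posUnipotent F → Tab.gA θ g ∈ D.posUnipotent F)
    (hV : ∀ g ∈ D.group F, g ∈ D.negUnipotent F → Tab.gA θ g ∈ D.negUnipotent F) :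
    Tab.FixUV θ := by
  have key : ∀ K : Subgroup (GL D.Idx F), (∀ g ∈ D.group F, g ∈ K → Tab.gA θ g ∈ K) →
      ∀ g ∈ D.group F, Tab.gA θ g ∈ K ↔ g ∈ K := by
    intro K hK g hg
    refine ⟨fun h => ?_, hK g hg⟩
    set K' := K.subgroupOf (D.group F)
    have hle : K'.map θ.toMonoidHom ≤ K' := by
      rintro _ ⟨y, hy, rfl⟩
      show (θ y : GL D.Idx F) ∈ K
      rw [← Tab.gA_coe]
      exact hK _ y.2 hy
    have heq : K'.map θ.toMonoidHom = K' := Subgroup.eq_of_le_of_card_ge hle
      (le_of_eq (Subgroup.card_map_of_injective θ.injective).symm)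
    have hm : θ ⟨g, hg⟩ ∈ K'.map θ.toMonoidHom := by
      rw [heq, Subgroup.mem_subgroupOf, ← Tab.gA_eq θ hg]; exact h
    exact (Subgroup.mem_map_iff_mem (f := θ.toMonoidHom) θ.injective).mp hm
  exact ⟨key _ hU, key _ hV⟩

/-- The exponents of a root map are those of a graph automorphism. -/
def chkSpec (D : ChevalleyDatum) (p : ℕ) (l : List ℕ) (spec : List (ℕ × ℕ)) : Bool :=
  allBelow (fun i => decide (spec.getD i (0, 1) =
    (l.getD i 0, if D.isLong (D.simple (l.getD i 0)) && !D.isLong (D.simple i) then p else 1)) &&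
    Nat.blt 0 (spec.getD i (0, 1)).2) D.rank

theorem graphFor_refl {D : ChevalleyDatum} {F : Type*} [Field F] :
    GraphFor D (MulEquiv.refl ↥(D.group F)) 1 := by
  intro y i t
  have e : ∀ c, D.graphExp c i i = 1 := fun c => by simp [ChevalleyDatum.graphExp]
  simp [e]

theorem exists_graphFor {D : ChevalleyDatum} {T : Tab D} (G : T.Good) (hW : T.HasWit)
    {F : Type*} [Field F] [Finite F] {p : ℕ} (hp : (p : F) = 0)
    (hpp : p = 0 ∨ p.Prime) {m : List (ℕ × ℤ × ℕ)} (hm : T.chkMap p m = true)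
    {spec : List (ℕ × ℕ)} (hs : chkSimple D m spec = true) (hsign : chkPosMap D m = true)
    {π : Equiv.Perm (Fin D.rank)} (hspec : chkSpec D p (permVals π) spec = true) :
    ∃ g : ↥(D.group F) ≃* ↥(D.group F), GraphFor D g π ∧ Tab.FixUV g := by
  have hchar : 0 < p → p = ringChar F := fun h0 => by
    have hpr : p.Prime := hpp.resolve_left (Nat.pos_iff_ne_zero.mp h0)
    rcases (Nat.dvd_prime hpr).mp ((ringChar.spec F p).mp hp) with e | e
    · exact absurd e (CharP.ringChar_ne_one)
    · exact e.symm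
  have hex : ∀ hp0 : 0 < p, Fact p.Prime ∧ CharP F p := fun h0 =>
    ⟨⟨hpp.resolve_left (Nat.pos_iff_ne_zero.mp h0)⟩, hchar h0 ▸ ringChar.charP F⟩
  obtain ⟨α, hα, hx⟩ := G.exists_endo hW (F := F) hp
    (fun h0 t u => by obtain ⟨_, _⟩ := hex h0; exact add_pow_char t u p)
    (fun h0 v => by obtain ⟨_, _⟩ := hex h0; exact surjective_frobenius F p v) hm
  let g : ↥(D.group F) ≃* ↥(D.group F) :=
    MulEquiv.ofBijective α ⟨Finite.injective_iff_surjective.mpr hα, hα⟩
  have hgx : ∀ r < D.nroots, ∀ t : F, Tab.gA g (G.full.x r t) = G.mapX m r t := fun r hr t => by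
    rw [Tab.gA_eq g (G.x_mem_group _ _)]
    exact hx _ r t hr rfl
  simp only [chkSimple, allBelow_iff, decide_eq_true_eq] at hs
  simp only [chkPosMap, allBelow_iff, decide_eq_true_eq] at hsign
  simp only [chkSpec, allBelow_iff] at hspec
  refine ⟨g, fun y i t => ?_, fixUV_of_maps ?_ ?_⟩
  · obtain ⟨h1, h2, h3, h4⟩ := hs i i.isLt
    have hi := hspec i i.isLt
    rw [Bool.and_eq_true, decide_eq_true_eq, Nat.blt_eq] at hi
    obtain ⟨e, hpos⟩ := hi
    have hl : (permVals π).getD i.val 0 = (π i).val := by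
      simp [permVals, List.getD_eq_getElem?_getD, i.isLt]
    rw [hl] at e
    have hexp : (spec.getD i.val (0, 1)).2 = D.graphExp (ringChar F) i (π i) := by
      rw [e, ChevalleyDatum.graphExp]
      split_ifs with hc
      · rw [e] at hpos
        simp only [hc, if_true] at hpos
        exact hchar hpos
      · rfl
    rw [hexp, show (spec.getD i.val (0, 1)).1 = (π i).val by rw [e]] at h3 h4
    refine ⟨fun hy => ?_, fun hy => ?_⟩
    · show ((α y : GL D.Idx F) : Matrix D.Idx D.Idx F) = _
      rw [hx y _ t h1 (G.full.eq_x.mp hy), Tab.Good.mapX, h3]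
      simp [G.full.coe_x']
    · show ((α y : GL D.Idx F) : Matrix D.Idx D.Idx F) = _
      rw [hx y _ t h2 (G.full.eq_x.mp hy), Tab.Good.mapX, h4]
      simp [G.full.coe_x']
  all_goals
    intro y hyG hy
    clear hyG
    first
      | rw [G.posUnipotent_eq] at hy ⊢
      | rw [G.negUnipotent_eq] at hy ⊢
    induction hy using Subgroup.closure_induction with
    | mem z hz =>
      obtain ⟨r, hr, t, rfl⟩ := hz
      rw [hgx r hr.1, Tab.Good.mapX]
      refine G.x_mem_US ?_ _
      have hlt : (Tab.mapAt m r).1 < D.nroots := by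
        simp only [Tab.chkMap, allBelow_iff, Bool.and_eq_true, Tab.chkMapRoot, Nat.blt_eq,
          decide_eq_true_eq] at hm
        exact (hm r hr.1).1.1.1.1.1
      first
        | exact ⟨hlt, (hsign r hr.1).mp hr.2⟩
        | exact ⟨hlt, fun h => hr.2 ((hsign r hr.1).mpr h)⟩
    | one => rw [Tab.gA_one]; exact one_mem _
    | mul a b ha hb ha' hb' =>
      rw [Tab.gA_mul g (G.US_le_group _ ha) (G.US_le_group _ hb)]; exact mul_mem ha' hb'
    | inv a ha ha' => rw [Tab.gA_inv g (G.US_le_group _ ha)]; exact inv_mem ha'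

theorem exists_refl_fix {D : ChevalleyDatum} {F : Type*} [Field F] :
    ∃ g : ↥(D.group F) ≃* ↥(D.group F), GraphFor D g 1 ∧ Tab.FixUV g := by
  refine ⟨_, graphFor_refl, fun g hg => ?_, fun g hg => ?_⟩ <;>
    rw [Tab.gA_eq _ hg] <;> exact Iff.rfl

/-- The node maps of the non-trivial symmetries have graph automorphisms. -/
theorem graph_D4 {F : Type*} [Field F] [Finite F] {π : Equiv.Perm (Fin chevD4.rank)}
    (hπ : chevD4.IsDiagramSymmetry π) : ∃ g, GraphFor chevD4 (F := F) g π ∧ Tab.FixUV g := by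
  have hm := permVals_mem hπ bonds_D4_eq
  rw [symList_D4] at hm
  have h0 : ((0 : ℕ) : F) = 0 := Nat.cast_zero
  simp only [List.mem_cons, List.not_mem_nil, or_false] at hm
  rcases hm with h | h | h | h | h | h
  · exact exists_graphFor good_D4 ⟨_, wits_D4⟩ h0 (Or.inl rfl)
      (m := (List.range chevD4.nroots).map fun r => (r, 1, 1)) (by decide +kernel)
      (spec := [(0, 1), (1, 1), (2, 1), (3, 1)]) (by decide +kernel) (by decide +kernel) (by rw [h]; decide +kernel)
  · exact exists_graphFor good_D4 ⟨_, wits_D4⟩ h0 (Or.inl rfl)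
      (m := Cfsg.Agent.S2161.d4e) (by decide +kernel)
      (spec := [(0, 1), (1, 1), (3, 1), (2, 1)]) (by decide +kernel) (by decide +kernel) (by rw [h]; decide +kernel)
  · exact exists_graphFor good_D4 ⟨_, wits_D4⟩ h0 (Or.inl rfl)
      (m := Cfsg.Agent.S2161.d4c) (by decide +kernel)
      (spec := [(2, 1), (1, 1), (0, 1), (3, 1)]) (by decide +kernel) (by decide +kernel) (by rw [h]; decide +kernel)
  · exact exists_graphFor good_D4 ⟨_, wits_D4⟩ h0 (Or.inl rfl) chkGraphD4a graphSimple_D4a (by decide +kernel)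
      (by rw [h]; decide +kernel)
  · exact exists_graphFor good_D4 ⟨_, wits_D4⟩ h0 (Or.inl rfl) chkGraphD4b graphSimple_D4b (by decide +kernel)
      (by rw [h]; decide +kernel)
  · exact exists_graphFor good_D4 ⟨_, wits_D4⟩ h0 (Or.inl rfl)
      (m := Cfsg.Agent.S2161.d4d) (by decide +kernel)
      (spec := [(3, 1), (1, 1), (2, 1), (0, 1)]) (by decide +kernel) (by decide +kernel) (by rw [h]; decide +kernel)

theorem permVals_injective {n : ℕ} {π ρ : Equiv.Perm (Fin n)} (h : permVals π = permVals ρ) :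
    π = ρ := by
  refine Equiv.ext fun i => Fin.ext ?_
  have := congrArg (fun l => l.getD i.val 0) h
  simpa [permVals, List.getD_eq_getElem?_getD, i.isLt] using this

theorem eq_one_of_permVals {n : ℕ} {π : Equiv.Perm (Fin n)} (h : permVals π = List.range n) :
    π = 1 := by
  refine Equiv.ext fun i => Fin.ext ?_
  have := congrArg (fun l => l.getD i.val 0) h
  simpa [permVals, List.getD_eq_getElem?_getD, i.isLt] using this

theorem graph_E6 {F : Type*} [Field F] [Finite F] {π : Equiv.Perm (Fin chevE6.rank)}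
    (hπ : chevE6.IsDiagramSymmetry π) : ∃ g, GraphFor chevE6 (F := F) g π ∧ Tab.FixUV g := by
  have hm := permVals_mem hπ bonds_E6_eq
  rw [symList_E6] at hm
  simp only [List.mem_cons, List.not_mem_nil, or_false] at hm
  rcases hm with h | h
  · rw [eq_one_of_permVals (h.trans rfl)]
    exact exists_refl_fix
  · exact exists_graphFor good_E6 ⟨_, wits_E6⟩ Nat.cast_zero (Or.inl rfl) chkGraphE6
      graphSimple_E6 (by decide +kernel) (by rw [h]; decide +kernel)

theorem graph_E7 {F : Type*} [Field F] {π : Equiv.Perm (Fin chevE7.rank)}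
    (hπ : chevE7.IsDiagramSymmetry π) : ∃ g, GraphFor chevE7 (F := F) g π ∧ Tab.FixUV g := by
  have hm := permVals_mem hπ bonds_E7_eq
  rw [symList_E7, List.mem_singleton] at hm
  rw [eq_one_of_permVals (hm.trans rfl)]
  exact exists_refl_fix

theorem graph_E8 {F : Type*} [Field F] {π : Equiv.Perm (Fin chevE8.rank)}
    (hπ : chevE8.IsDiagramSymmetry π) : ∃ g, GraphFor chevE8 (F := F) g π ∧ Tab.FixUV g := by
  have hm := permVals_mem hπ bonds_E8_eq
  rw [symList_E8, List.mem_singleton] at hm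
  rw [eq_one_of_permVals (hm.trans rfl)]
  exact exists_refl_fix

/-- The first case: a symmetry exchanging lengths forces the characteristic. -/
theorem graph_G2 {F : Type*} [Field F] [Finite F] {θ : ↥(chevG2.group F) ≃* ↥(chevG2.group F)}
    {π : Equiv.Perm (Fin chevG2.rank)} {a b : Fin chevG2.rank → F → F}
    (hπ : chevG2.IsDiagramSymmetry π) (hA : Tab.Acts good_G2 θ π a b) (h1 : ∀ i, a i 1 = 1) :
    ∃ g, GraphFor chevG2 (F := F) g π ∧ Tab.FixUV g := by
  have hm := permVals_mem hπ bonds_G2_eq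
  rw [symList_G2] at hm
  simp only [List.mem_cons, List.not_mem_nil, or_false] at hm
  rcases hm with h | h
  · rw [eq_one_of_permVals (h.trans rfl)]
    exact exists_refl_fix
  · have hπe : π = Equiv.swap ⟨0, by decide⟩ ⟨1, by decide⟩ :=
      permVals_injective (h.trans (by decide +kernel))
    subst hπe
    have hp := good_G2.acts_char hA h1 (p := 3) [] [⟨0, by decide⟩, ⟨1, by decide⟩]
      ⟨1, by decide⟩ ⟨1, by decide⟩ (by decide +kernel)
    exact exists_graphFor good_G2 ⟨_, wits_G2⟩ hp (Or.inr Nat.prime_three) chkGraphG2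
      graphSimple_G2 (by decide +kernel) (by rw [h]; decide +kernel)

theorem graph_B2 {F : Type*} [Field F] [Finite F] {θ : ↥(chevB2.group F) ≃* ↥(chevB2.group F)}
    {π : Equiv.Perm (Fin chevB2.rank)} {a b : Fin chevB2.rank → F → F}
    (hπ : chevB2.IsDiagramSymmetry π) (hA : Tab.Acts good_B2 θ π a b) (h1 : ∀ i, a i 1 = 1) :
    ∃ g, GraphFor chevB2 (F := F) g π ∧ Tab.FixUV g := by
  have hm := permVals_mem hπ bonds_B2_eq
  rw [symList_B2] at hm
  simp only [List.mem_cons, List.not_mem_nil, or_false] at hm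
  rcases hm with h | h
  · rw [eq_one_of_permVals (h.trans rfl)]
    exact exists_refl_fix
  · have hπe : π = Equiv.swap ⟨0, by decide⟩ ⟨1, by decide⟩ :=
      permVals_injective (h.trans (by decide +kernel))
    subst hπe
    have hp := good_B2.acts_char hA h1 (p := 2) [] [⟨0, by decide⟩]
      ⟨1, by decide⟩ ⟨1, by decide⟩ (by decide +kernel)
    exact exists_graphFor good_B2 ⟨_, wits_B2⟩ hp (Or.inr Nat.prime_two) chkGraphB2
      graphSimple_B2 (by decide +kernel) (by rw [h]; decide +kernel)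

theorem graph_F4 {F : Type*} [Field F] [Finite F] {θ : ↥(chevF4.group F) ≃* ↥(chevF4.group F)}
    {π : Equiv.Perm (Fin chevF4.rank)} {a b : Fin chevF4.rank → F → F}
    (hπ : chevF4.IsDiagramSymmetry π) (hA : Tab.Acts good_F4 θ π a b) (h1 : ∀ i, a i 1 = 1) :
    ∃ g, GraphFor chevF4 (F := F) g π ∧ Tab.FixUV g := by
  have hm := permVals_mem hπ bonds_F4_eq
  rw [symList_F4] at hm
  simp only [List.mem_cons, List.not_mem_nil, or_false] at hm
  rcases hm with h | h
  · rw [eq_one_of_permVals (h.trans rfl)]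
    exact exists_refl_fix
  · have hπe : π = Equiv.swap ⟨0, by decide⟩ ⟨3, by decide⟩ *
        Equiv.swap ⟨1, by decide⟩ ⟨2, by decide⟩ :=
      permVals_injective (h.trans (by decide +kernel))
    subst hπe
    have hp := good_F4.acts_char hA h1 (p := 2) [] [⟨1, by decide⟩]
      ⟨2, by decide⟩ ⟨2, by decide⟩ (by decide +kernel)
    exact exists_graphFor good_F4 ⟨_, wits_F4⟩ hp (Or.inr Nat.prime_two) chkGraphF4
      graphSimple_F4 (by decide +kernel) (by rw [h]; decide +kernel)

end CfsgLib.Chev
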