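import Cfsg.Agent.ChevAut.GraphData
import Cfsg.Agent.ChevAut.CoefChar
import Cfsg.Agent.ChevAut.ChecksSmall
import Cfsg.Agent.ChevAut.ChecksE8
import Cfsg.Agent.Chev.FieldFix

/-! Every automorphism is inner times diagonal times graph times field. -/

set_option autoImplicit false

namespace CfsgLib.Chev

open Cfsg.Lie Matrix
open scoped MatrixGroups

namespace Tab

variable {D : ChevalleyDatum}

theorem GraphFor.apply {T : Tab D} (G : T.Good) {F : Type*} [Field F]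
    {g : ↥(D.group F) ≃* ↥(D.group F)} {π : Equiv.Perm (Fin D.rank)} (h : GraphFor D g π)
    (i : Fin D.rank) (t : F) :
    gA g (G.full.x (D.simple i) t) =
        G.full.x (D.simple (π i)) (t ^ D.graphExp (ringChar F) i (π i)) ∧
      gA g (G.full.x (negR D (D.simple i)) t) =
        G.full.x (negR D (D.simple (π i))) (t ^ D.graphExp (ringChar F) i (π i)) := by
  have hi := G.full.simple_lt i.isLt
  have hπi := G.full.simple_lt (π i).isLt
  refine ⟨?_, ?_⟩ <;> rw [gA_eq g (G.x_mem_group _ _)]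
  · exact G.full.eq_x.mp ((h ⟨_, G.x_mem_group _ _⟩ i t).1 (G.full.coe_x' _ _))
  · have := (h ⟨_, G.x_mem_group _ (t)⟩ i t).2
      (by rw [G.full.cert.neg_eq hi]; exact G.full.coe_x' (negR D (D.simple i)) t)
    rw [G.full.cert.neg_eq hπi] at this
    exact G.full.eq_x.mp this

namespace Good

variable {T : Tab D} (G : T.Good) {F : Type*} [Field F]
include G

/-- A field automorphism of the group. -/
theorem exists_fieldAut (σ : F ≃+* F) :
    ∃ f : ↥(D.group F) ≃* ↥(D.group F), D.IsFieldAut f ∧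
      ∀ y : ↥(D.group F), (f y : GL D.Idx F) = glMap D σ.toRingHom (y : GL D.Idx F) := by
  let f : ↥(D.group F) ≃* ↥(D.group F) :=
    { toFun := fun y => ⟨glMap D σ.toRingHom y, G.glMap_group _ y.2⟩
      invFun := fun y => ⟨glMap D σ.symm.toRingHom y, G.glMap_group _ y.2⟩
      left_inv := fun y => Subtype.ext (Units.ext (Matrix.ext fun a b => σ.symm_apply_apply _))
      right_inv := fun y => Subtype.ext (Units.ext (Matrix.ext fun a b => σ.apply_symm_apply _))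
      map_mul' := fun a b => Subtype.ext (map_mul _ _ _) }
  refine ⟨f, ⟨σ, fun y r t _ hy => ?_⟩, fun y => rfl⟩
  show ((glMap D σ.toRingHom (y : GL D.Idx F) : GL D.Idx F) : Matrix D.Idx D.Idx F) = _
  rw [G.full.eq_x.mp hy, G.glMap_x]
  exact G.full.coe_x' r (σ t)

theorem exists_decomp [Finite F] (hrank : 0 < D.rank) (hD : D ∈ [chevG2, chevB2, chevD4, chevF4, chevE6, chevE7, chevE8])
    {det : ℤ} {M : List (List ℤ)} (hcoef : T.chkCoef det M = true) (hchk : T.chkAut = true)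
    (hgraph : ∀ (θ : ↥(D.group F) ≃* ↥(D.group F)) (π : Equiv.Perm (Fin D.rank))
      (a b : Fin D.rank → F → F), D.IsDiagramSymmetry π → Acts G θ π a b → (∀ i, a i 1 = 1) →
      ∃ g, GraphFor D (F := F) g π ∧ FixUV g)
    (θ : ↥(D.group F) ≃* ↥(D.group F)) :
    ∃ (x : ↥(D.group F)) (χ : ℕ → Fˣ) (π : Equiv.Perm (Fin D.rank)) (σ : F ≃+* F)
      (d g f : ↥(D.group F) ≃* ↥(D.group F)),
      D.IsRootCharacter χ ∧
      (∀ y : ↥(D.group F),
        (d y : GL D.Idx F) = charUnit D χ * (y : GL D.Idx F) * (charUnit D χ)⁻¹) ∧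
      D.IsDiagonalAut d ∧ D.IsDiagramSymmetry π ∧ GraphFor D g π ∧ FixUV g ∧ D.IsFieldAut f ∧
      (∀ y : ↥(D.group F), (f y : GL D.Idx F) = glMap D σ.toRingHom (y : GL D.Idx F)) ∧
        ∀ y : ↥(D.group F), θ y = x * d (g (f y)) * x⁻¹ := by
  simp only [chkAut, Bool.and_eq_true] at hchk
  obtain ⟨⟨hopp, hbonds⟩, hlink⟩ := hchk
  obtain ⟨x, θ₂, hfix, hx⟩ := G.exists_fixUV θ
  obtain ⟨π, a, b, hA⟩ := G.exists_acts hopp hfix
  have ha0 : ∀ i, a i 1 ≠ 0 := fun i h =>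
    one_ne_zero ((G.acts_inj hA i).1 (h.trans (G.acts_zero hA i).1.symm))
  -- the diagonal part
  obtain ⟨χ, hχ, hχu⟩ := G.exists_rootChar hcoef fun j => Units.mk0 _ (ha0 (π.symm j))
  obtain ⟨d, hd, hdc⟩ := G.exists_diagAut hD hχ
  have hdx : ∀ r < D.nroots, ∀ t : F,
      gA d.symm (G.full.x r t) = G.full.x r (((χ r)⁻¹ : Fˣ) * t) := by
    intro r hr t
    refine gA_inj d (gA_mem _ (G.x_mem_group _ _)) (G.x_mem_group _ _) ?_
    rw [gA_symm d (G.x_mem_group _ _), gA_eq d (G.x_mem_group _ _), hdc]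
    rw [G.charUnit_conj_x hD hχ hr, ← mul_assoc, Units.mul_inv, one_mul]
  set θ₃ : ↥(D.group F) ≃* ↥(D.group F) := θ₂.trans d.symm
  have hcomp : ∀ g ∈ D.group F, gA θ₃ g = gA d.symm (gA θ₂ g) := fun g hg => by
    rw [gA_eq θ₃ hg, gA_eq θ₂ hg, gA_coe]; rfl
  have hA₃ : Acts G θ₃ π (fun i t => ((χ (D.simple (π i)))⁻¹ : Fˣ) * a i t)
      fun i t => ((χ (negR D (D.simple (π i))))⁻¹ : Fˣ) * b i t := by
    refine ⟨fun i t => ?_, fun i t => ?_⟩ <;> rw [hcomp _ (G.x_mem_group _ _)]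
    · rw [hA.pos, hdx _ (G.full.simple_lt (π i).isLt)]
    · rw [hA.neg, hdx _ (Cert.negR_lt (G.full.simple_lt (π i).isLt))]
  have hone : ∀ i, (fun i t => (((χ (D.simple (π i)))⁻¹ : Fˣ) : F) * a i t) i 1 = 1 := fun i => by
    show (((χ (D.simple (π i)))⁻¹ : Fˣ) : F) * a i 1 = 1
    rw [hχu, Equiv.symm_apply_apply, Units.val_inv_eq_inv_val, Units.val_mk0,
      inv_mul_cancel₀ (ha0 i)]
  have hdK : ∀ (K : Subgroup (GL D.Idx F)) (S : Set ℕ), K = G.US F S → (∀ s ∈ S, s < D.nroots) →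
      ∀ g ∈ D.group F, gA d.symm g ∈ K ↔ g ∈ K := by
    intro K S hK hS
    have hfwd : ∀ (e : ↥(D.group F) ≃* ↥(D.group F)) (u : ℕ → F),
        (∀ r < D.nroots, ∀ t, gA e (G.full.x r t) = G.full.x r (u r * t)) →
        ∀ g ∈ K, gA e g ∈ K := by
      intro e u he g hg
      subst hK
      induction hg using Subgroup.closure_induction with
      | mem y hy => obtain ⟨r, hr, t, rfl⟩ := hy; rw [he r (hS r hr)]; exact G.x_mem_US hr _
      | one => rw [gA_one]; exact one_mem _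
      | mul p q hp hq hp' hq' =>
        rw [gA_mul e (G.US_le_group S hp) (G.US_le_group S hq)]; exact mul_mem hp' hq'
      | inv p hp hp' => rw [gA_inv e (G.US_le_group S hp)]; exact inv_mem hp'
    intro g hg
    refine ⟨fun h => ?_, hfwd d.symm _ hdx g⟩
    have := hfwd d (fun r => (χ r : F)) (fun r hr t => by
      rw [gA_eq d (G.x_mem_group _ _), hdc, G.charUnit_conj_x hD hχ hr]) _ h
    rwa [gA_symm d hg] at this
  have hfix₃ : FixUV θ₃ := by
    refine ⟨fun g hg => ?_, fun g hg => ?_⟩ <;> rw [hcomp g hg]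
    · rw [hdK _ _ G.posUnipotent_eq (fun s hs => hs.1) _ (gA_mem θ₂ hg), hfix.pos g hg]
    · rw [hdK _ _ G.negUnipotent_eq (fun s hs => hs.1) _ (gA_mem θ₂ hg), hfix.neg g hg]
  -- the graph part
  have hπ := G.acts_symmetry hbonds hfix₃ hA₃ hone
  obtain ⟨g, hg, hgfix⟩ := hgraph θ₃ π _ _ hπ hA₃ hone
  set θ₄ : ↥(D.group F) ≃* ↥(D.group F) := θ₃.trans g.symm
  have hcomp₄ : ∀ y ∈ D.group F, gA θ₄ y = gA g.symm (gA θ₃ y) := fun y hy => by
    rw [gA_eq θ₄ hy, gA_eq θ₃ hy, gA_coe]; rfl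
  cases nonempty_fintype F
  obtain ⟨p, _⟩ := CharP.exists F
  have : Fact p.Prime := ⟨CharP.char_is_prime F p⟩
  have hroot : ∀ (i : Fin D.rank) (v : F), ∃ w, w ^ D.graphExp (ringChar F) i (π i) = v := by
    intro i v
    rw [ChevalleyDatum.graphExp]
    split_ifs
    · rw [ringChar.eq F p]; exact surjective_frobenius F p v
    · exact ⟨v, pow_one v⟩
  choose root hr using hroot
  have hA₄ : Acts G θ₄ 1
      (fun i t => root i ((((χ (D.simple (π i)))⁻¹ : Fˣ) : F) * a i t))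
      fun i t => root i ((((χ (negR D (D.simple (π i))))⁻¹ : Fˣ) : F) * b i t) := by
    refine ⟨fun i t => ?_, fun i t => ?_⟩ <;>
      rw [hcomp₄ _ (G.x_mem_group _ _), Equiv.Perm.one_apply] <;>
      refine gA_inj g (gA_mem _ (gA_mem _ (G.x_mem_group _ _))) (G.x_mem_group _ _) ?_ <;>
      rw [gA_symm g (gA_mem _ (G.x_mem_group _ _))]
    · rw [hA₃.pos, (GraphFor.apply G hg i _).1, hr]
    · rw [hA₃.neg, (GraphFor.apply G hg i _).2, hr]
  have hexp : ∀ i : Fin D.rank, D.graphExp (ringChar F) i (π i) = 1 ∨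
      D.graphExp (ringChar F) i (π i) = p := fun i => by
    rw [ChevalleyDatum.graphExp, ringChar.eq F p]; split_ifs <;> simp
  have hone₄ : ∀ i, (fun i t => root i ((((χ (D.simple (π i)))⁻¹ : Fˣ) : F) * a i t)) i 1 = 1 := by
    intro i
    show root i ((((χ (D.simple (π i)))⁻¹ : Fˣ) : F) * a i 1) = 1
    have h1 := hr i ((((χ (D.simple (π i)))⁻¹ : Fˣ) : F) * a i 1)
    have h2 := hone i
    rw [show (((χ (D.simple (π i)))⁻¹ : Fˣ) : F) * a i 1 = 1 from h2] at h1 ⊢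
    rcases hexp i with e | e <;> rw [e] at h1
    · simpa using h1
    · exact frobenius_inj F p (by simpa [frobenius_def] using h1)
  -- the field part
  obtain ⟨σ, hσ⟩ := G.exists_ringEquiv hA₄ hone₄
  obtain ⟨f, hfa, hfy⟩ := G.exists_fieldAut (σ ⟨0, hrank⟩)
  have heq : θ₄.toMonoidHom = f.toMonoidHom := by
    refine G.hom_ext_simple fun y i t hy => Subtype.ext ?_
    show (θ₄ y : GL D.Idx F) = (f y : GL D.Idx F)
    rw [hfy, ← gA_coe θ₄]
    rcases hy with hy | hy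
    · rw [G.full.eq_x.mp hy, hσ.pos, G.glMap_x, Equiv.Perm.one_apply,
        G.acts_const hlink hσ i ⟨0, hrank⟩]
      rfl
    · rw [G.full.cert.neg_eq (G.full.simple_lt i.isLt)] at hy
      rw [G.full.eq_x.mp hy, hσ.neg, G.glMap_x, Equiv.Perm.one_apply,
        G.acts_const hlink hσ i ⟨0, hrank⟩]
      rfl
  refine ⟨x, χ, π, σ ⟨0, hrank⟩, d, g, f, hχ, hdc, hd, hπ, hg, hgfix, hfa, hfy, fun y => ?_⟩
  have e : θ₄ y = f y := DFunLike.congr_fun heq y
  rw [hx, ← e]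
  simp [θ₄, θ₃]

end Good

end Tab

/-- The decomposition, with the data of each factor. -/
theorem aut_decomp' {F : Type*} [Field F] [Finite F] {D : ChevalleyDatum}
    (hD : D ∈ [chevG2, chevB2, chevD4, chevF4, chevE6, chevE7, chevE8])
    (θ : ↥(D.group F) ≃* ↥(D.group F)) :
    ∃ (x : ↥(D.group F)) (χ : ℕ → Fˣ) (π : Equiv.Perm (Fin D.rank)) (σ : F ≃+* F)
      (d g f : ↥(D.group F) ≃* ↥(D.group F)),
      D.IsRootCharacter χ ∧
      (∀ y : ↥(D.group F), (d y : GL D.Idx F) =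
        Tab.Good.charUnit D χ * (y : GL D.Idx F) * (Tab.Good.charUnit D χ)⁻¹) ∧
      D.IsDiagonalAut d ∧ D.IsDiagramSymmetry π ∧ GraphFor D g π ∧ Tab.FixUV g ∧
      D.IsFieldAut f ∧
      (∀ y : ↥(D.group F), (f y : GL D.Idx F) = Tab.glMap D σ.toRingHom (y : GL D.Idx F)) ∧
        ∀ y : ↥(D.group F), θ y = x * d (g (f y)) * x⁻¹ := by
  have hD' := hD
  simp only [List.mem_cons, List.not_mem_nil, or_false] at hD'
  rcases hD' with rfl | rfl | rfl | rfl | rfl | rfl | rfl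
  · exact good_G2.exists_decomp (by decide) hD coef_G2 aut_G2 (fun _ _ _ _ hπ hA h1 => graph_G2 hπ hA h1) θ
  · exact good_B2.exists_decomp (by decide) hD coef_B2 aut_B2 (fun _ _ _ _ hπ hA h1 => graph_B2 hπ hA h1) θ
  · exact good_D4.exists_decomp (by decide) hD coef_D4 aut_D4 (fun _ _ _ _ hπ _ _ => graph_D4 hπ) θ
  · exact good_F4.exists_decomp (by decide) hD coef_F4 aut_F4 (fun _ _ _ _ hπ hA h1 => graph_F4 hπ hA h1) θ
  · exact good_E6.exists_decomp (by decide) hD coef_E6 aut_E6 (fun _ _ _ _ hπ _ _ => graph_E6 hπ) θ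
  · exact good_E7.exists_decomp (by decide) hD coef_E7 aut_E7 (fun _ _ _ _ hπ _ _ => graph_E7 hπ) θ
  · exact good_E8.exists_decomp (by decide) hD coef_E8 aut_E8 (fun _ _ _ _ hπ _ _ => graph_E8 hπ) θ

/-- Steinberg's theorem on automorphisms. -/
theorem aut_decomp {F : Type*} [Field F] [Finite F] {D : ChevalleyDatum}
    (hD : D ∈ [chevG2, chevB2, chevD4, chevF4, chevE6, chevE7, chevE8])
    (θ : ↥(D.group F) ≃* ↥(D.group F)) :
    ∃ (x : ↥(D.group F)) (d g f : ↥(D.group F) ≃* ↥(D.group F)),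
      D.IsDiagonalAut d ∧ D.IsGraphAut g ∧ D.IsFieldAut f ∧
        ∀ y : ↥(D.group F), θ y = x * d (g (f y)) * x⁻¹ := by
  obtain ⟨x, -, π, -, d, g, f, -, -, hd, hπ, hg, -, hf, -, h⟩ := aut_decomp' hD θ
  exact ⟨x, d, g, f, hd, ⟨π, hπ, hg⟩, hf, h⟩

end CfsgLib.Chev
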