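import Cfsg.Agent.Chev.Levi
import Cfsg.Agent.Chev.Card
import Cfsg.Agent.Chev.SimpleGen

/-!
Automorphisms of a finite Chevalley group can be corrected by inner ones to fix the two unipotent
subgroups; the groups they then fix.
-/

set_option autoImplicit false

namespace CfsgLib.Chev

open Cfsg.Lie Matrix
open scoped MatrixGroups

namespace Tab

variable {D : ChevalleyDatum} {F : Type*} [Field F]

open scoped Classical in
/-- An automorphism as a map of matrices. -/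
noncomputable def gA (θ : ↥(D.group F) ≃* ↥(D.group F)) (g : GL D.Idx F) : GL D.Idx F :=
  if h : g ∈ D.group F then (θ ⟨g, h⟩ : GL D.Idx F) else g

variable (θ : ↥(D.group F) ≃* ↥(D.group F))

theorem gA_eq {g : GL D.Idx F} (h : g ∈ D.group F) : gA θ g = (θ ⟨g, h⟩ : GL D.Idx F) := dif_pos h

theorem gA_coe (g : ↥(D.group F)) : gA θ (g : GL D.Idx F) = (θ g : GL D.Idx F) := by
  rw [gA_eq θ g.2]

theorem gA_mem {g : GL D.Idx F} (h : g ∈ D.group F) : gA θ g ∈ D.group F := by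
  rw [gA_eq θ h]; exact SetLike.coe_mem _

theorem gA_mul {g h : GL D.Idx F} (hg : g ∈ D.group F) (hh : h ∈ D.group F) :
    gA θ (g * h) = gA θ g * gA θ h := by
  rw [gA_eq θ hg, gA_eq θ hh, gA_eq θ (mul_mem hg hh), ← Subgroup.coe_mul, ← map_mul]
  rfl

theorem gA_one : gA θ 1 = 1 := by
  rw [gA_eq θ (one_mem _), show (⟨1, one_mem _⟩ : D.group F) = 1 from rfl, map_one,
    OneMemClass.coe_one]

theorem gA_inv {g : GL D.Idx F} (hg : g ∈ D.group F) : gA θ g⁻¹ = (gA θ g)⁻¹ := by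
  rw [gA_eq θ hg, gA_eq θ (inv_mem hg), ← InvMemClass.coe_inv, ← map_inv]
  rfl

theorem gA_conj {g h : GL D.Idx F} (hg : g ∈ D.group F) (hh : h ∈ D.group F) :
    gA θ (g * h * g⁻¹) = gA θ g * gA θ h * (gA θ g)⁻¹ := by
  rw [gA_mul θ (mul_mem hg hh) (inv_mem hg), gA_mul θ hg hh, gA_inv θ hg]

theorem gA_inj {g h : GL D.Idx F} (hg : g ∈ D.group F) (hh : h ∈ D.group F)
    (e : gA θ g = gA θ h) : g = h := by
  rw [gA_eq θ hg, gA_eq θ hh] at e
  exact congrArg Subtype.val (θ.injective (Subtype.ext e))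

theorem gA_symm {g : GL D.Idx F} (hg : g ∈ D.group F) : gA θ (gA θ.symm g) = g := by
  rw [gA_eq θ.symm hg, gA_coe, MulEquiv.apply_symm_apply]

theorem gA_symm' {g : GL D.Idx F} (hg : g ∈ D.group F) : gA θ.symm (gA θ g) = g := by
  rw [gA_eq θ hg, gA_coe, MulEquiv.symm_apply_apply]

/-- The automorphism fixes `U` and `V`. -/
structure FixUV : Prop where
  pos : ∀ g ∈ D.group F, gA θ g ∈ D.posUnipotent F ↔ g ∈ D.posUnipotent F
  neg : ∀ g ∈ D.group F, gA θ g ∈ D.negUnipotent F ↔ g ∈ D.negUnipotent F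

theorem FixUV.symm {θ : ↥(D.group F) ≃* ↥(D.group F)} (h : FixUV θ) : FixUV θ.symm where
  pos g hg := by
    have := h.pos _ (gA_mem θ.symm hg)
    rw [gA_symm θ hg] at this
    exact this.symm
  neg g hg := by
    have := h.neg _ (gA_mem θ.symm hg)
    rw [gA_symm θ hg] at this
    exact this.symm

/-- Normalising a subgroup, seen inside the group. -/
def NormIn (K : Subgroup (GL D.Idx F)) (g : GL D.Idx F) : Prop :=
  ∀ x ∈ D.group F, x ∈ K ↔ g * x * g⁻¹ ∈ K

theorem normIn_gA {K : Subgroup (GL D.Idx F)}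
    (hK : ∀ g ∈ D.group F, gA θ g ∈ K ↔ g ∈ K) {g : GL D.Idx F} (hg : g ∈ D.group F) :
    NormIn K (gA θ g) ↔ NormIn K g := by
  constructor <;> intro h x hx
  · have := h _ (gA_mem θ hx)
    rw [hK x hx, ← gA_conj θ hg hx, hK _ (mul_mem (mul_mem hg hx) (inv_mem hg))] at this
    exact this
  · have := h _ (gA_mem θ.symm hx)
    rw [← hK _ (gA_mem θ.symm hx),
      ← hK _ (mul_mem (mul_mem hg (gA_mem θ.symm hx)) (inv_mem hg)),
      gA_conj θ hg (gA_mem θ.symm hx), gA_symm θ hx] at this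
    exact this

theorem normIn_of_normalizer {K : Subgroup (GL D.Idx F)} {g : GL D.Idx F}
    (h : g ∈ Subgroup.normalizer (K : Set (GL D.Idx F))) : NormIn K g := fun x _ =>
  Subgroup.mem_normalizer_iff.mp h x

namespace Good

variable {T : Tab D} (G : T.Good)
include G

theorem pos_le_group : D.posUnipotent F ≤ D.group F :=
  fun _ h => G.borel_le_group (G.pos_le_borel h)

theorem neg_le_group : D.negUnipotent F ≤ D.group F := by
  rw [← G.pos_sup_neg]; exact le_sup_right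

theorem rad_empty : D.unipotentRadical F ∅ = D.posUnipotent F := by
  rw [G.rad_eq, G.posUnipotent_eq]
  congr 1
  ext r
  refine ⟨fun h => h.1, fun h => ⟨h, fun hJ => ?_⟩⟩
  obtain ⟨j, hj⟩ := G.exists_cor_ne_zero (F := ℚ) h.1
  exact hj (by simp [hJ.2 j (Set.notMem_empty _)])

theorem mem_borel_iff {g : GL D.Idx F} (hg : g ∈ D.group F) :
    g ∈ D.borelSubgroup F ↔ NormIn (D.posUnipotent F) g := by
  constructor
  · intro h
    refine normIn_of_normalizer ?_
    rw [← G.rad_empty]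
    exact G.rad_normal ∅ (Subgroup.mem_sup_left h)
  · intro h
    have hN : g ∈ Subgroup.normalizer (D.unipotentRadical F ∅ : Set (GL D.Idx F)) := by
      rw [G.rad_empty, Subgroup.mem_normalizer_iff]
      intro x
      refine ⟨fun hx => (h x (G.pos_le_group hx)).mp hx, fun hx => ?_⟩
      have hxG : x ∈ D.group F := by
        have := mul_mem (mul_mem (inv_mem hg) (G.pos_le_group hx)) hg
        rwa [show g⁻¹ * (g * x * g⁻¹) * g = x by group] at this
      exact (h x hxG).mpr hx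
    have := (G.normalizer_rad ∅).le (Subgroup.mem_inf.mpr ⟨hN, hg⟩)
    refine (sup_le le_rfl ?_ : D.parabolicSubgroup F ∅ ≤ D.borelSubgroup F) this
    exact (Subgroup.closure_le _).mpr fun z ⟨j, hj, _⟩ => absurd hj (Set.notMem_empty j)

theorem normIn_neg_iff {n : GL D.Idx F} (hn : n ∈ D.group F)
    (e : (D.posUnipotent F).map (MulAut.conj n).toMonoidHom = D.negUnipotent F) {g : GL D.Idx F} :
    NormIn (D.negUnipotent F) g ↔ NormIn (D.posUnipotent F) (n⁻¹ * g * n) := by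
  have key : ∀ x, x ∈ D.negUnipotent F ↔ n⁻¹ * x * n ∈ D.posUnipotent F := fun x => by
    rw [← e]
    exact ⟨fun ⟨u, hu, eu⟩ => by rw [← eu]; simpa [mul_assoc] using hu,
      fun h => ⟨_, h, by simp [mul_assoc]⟩⟩
  constructor <;> intro h x hx
  · have := h (n * x * n⁻¹) (mul_mem (mul_mem hn hx) (inv_mem hn))
    rw [key, key] at this
    simpa [mul_assoc] using this
  · have := h (n⁻¹ * x * n) (mul_mem (mul_mem (inv_mem hn) hx) hn)
    rw [key, key]
    simpa [mul_assoc] using this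

/-- `H` is the common normaliser of `U` and `V`. -/
theorem mem_diagonal_iff {g : GL D.Idx F} (hg : g ∈ D.group F) :
    g ∈ D.diagonalSubgroup F ↔
      NormIn (D.posUnipotent F) g ∧ NormIn (D.negUnipotent F) g := by
  refine ⟨fun h => ⟨normIn_of_normalizer (G.diagonal_le_normalizer_pos h),
    normIn_of_normalizer (G.diagonal_le_normalizer_neg h)⟩, fun ⟨h1, h2⟩ => ?_⟩
  obtain ⟨n, hn, e⟩ := G.conj_pos_eq_neg (F := F)
  have hnG := G.monomial_le_group hn
  have hb := (G.mem_borel_iff hg).mpr h1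
  have hb' := (G.mem_borel_iff (mul_mem (mul_mem (inv_mem hnG) hg) hnG)).mpr
    ((G.normIn_neg_iff hnG e).mp h2)
  obtain ⟨u, hu, c, huc⟩ := G.mem_borel.mp hb'
  have hc : T.hT F c ∈ D.diagonalSubgroup F := by
    rw [G.full.diagonal_eq_range]; exact ⟨c, rfl⟩
  rw [← G.borel_inf_neg_torus]
  refine Subgroup.mem_inf.mpr ⟨hb, ?_⟩
  rw [show g = n * u * n⁻¹ * (n * T.hT F c * n⁻¹) by
    rw [show n * u * n⁻¹ * (n * T.hT F c * n⁻¹) = n * (u * T.hT F c) * n⁻¹ by group, ← huc]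
    group]
  refine mul_mem (Subgroup.mem_sup_left (e ▸ ⟨u, hu, rfl⟩)) (Subgroup.mem_sup_right ?_)
  exact G.diagonal_normal.conj_mem ⟨_, G.hT_mem_monomial c⟩ hc ⟨n, hn⟩

theorem fixUV_borel {θ : ↥(D.group F) ≃* ↥(D.group F)} (h : FixUV θ) {g : GL D.Idx F}
    (hg : g ∈ D.group F) : gA θ g ∈ D.borelSubgroup F ↔ g ∈ D.borelSubgroup F := by
  rw [G.mem_borel_iff hg, G.mem_borel_iff (gA_mem θ hg), normIn_gA θ h.pos hg]

theorem fixUV_diagonal {θ : ↥(D.group F) ≃* ↥(D.group F)} (h : FixUV θ) {g : GL D.Idx F}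
    (hg : g ∈ D.group F) : gA θ g ∈ D.diagonalSubgroup F ↔ g ∈ D.diagonalSubgroup F := by
  rw [G.mem_diagonal_iff hg, G.mem_diagonal_iff (gA_mem θ hg), normIn_gA θ h.pos hg,
    normIn_gA θ h.neg hg]

/-- Every automorphism is an inner one followed by one fixing `U` and `V`. -/
theorem exists_fixUV [Finite F] (θ : ↥(D.group F) ≃* ↥(D.group F)) :
    ∃ (x : ↥(D.group F)) (θ' : ↥(D.group F) ≃* ↥(D.group F)),
      FixUV θ' ∧ ∀ y, θ y = x * θ' y * x⁻¹ := by
  cases nonempty_fintype F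
  obtain ⟨p, _⟩ := CharP.exists F
  have hp : Fact p.Prime := ⟨CharP.char_is_prime F p⟩
  obtain ⟨P, hP⟩ := G.exists_sylow (F := F) p
  have hU : ∀ g : D.group F, g ∈ (P : Subgroup (D.group F)) ↔
      (g : GL D.Idx F) ∈ D.posUnipotent F := fun g => by rw [hP, Subgroup.mem_subgroupOf]
  -- move `U` back
  set Q : Sylow p (D.group F) := Sylow.ofCard ((P : Subgroup (D.group F)).map θ.toMonoidHom) (by
    rw [Subgroup.card_map_of_injective θ.injective, P.card_eq_multiplicity]) with hQ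
  obtain ⟨x, hx⟩ := MulAction.exists_smul_eq (D.group F) P Q
  have hxU : ∀ g : D.group F, g ∈ (P : Subgroup (D.group F)) ↔
      x⁻¹ * θ g * x ∈ (P : Subgroup (D.group F)) := by
    intro g
    have h1 : θ g ∈ (Q : Subgroup (D.group F)) ↔ g ∈ (P : Subgroup (D.group F)) := by
      show θ g ∈ (P : Subgroup (D.group F)).map θ.toMonoidHom ↔ _
      exact Subgroup.mem_map_iff_mem θ.injective
    rw [← h1, ← hx, Sylow.coe_subgroup_smul, Subgroup.mem_pointwise_smul_iff_inv_smul_mem]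
    simp [MulAut.smul_def, mul_assoc]
  let θ₁ : ↥(D.group F) ≃* ↥(D.group F) := θ.trans (MulAut.conj x⁻¹)
  have hθ₁ : ∀ g ∈ D.group F, gA θ₁ g ∈ D.posUnipotent F ↔ g ∈ D.posUnipotent F := by
    intro g hg
    rw [gA_eq θ₁ hg, ← hU, ← hU ⟨g, hg⟩, hxU ⟨g, hg⟩]
    simp [θ₁, mul_assoc]
  -- the image of `V`
  obtain ⟨n₀, hn₀, e₀⟩ := G.conj_pos_eq_neg (F := F)
  have hn₀G := G.monomial_le_group hn₀
  obtain ⟨b, hb, n, hn, L, hL, u, hu, hg⟩ := G.canonical_exists (gA_mem θ₁ hn₀G)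
  have hbG := G.borel_le_group hb
  have hnG := G.monomial_le_group hn
  have hu' : u ∈ D.posUnipotent F := G.flip_le_pos _ hu
  have hneg : ∀ g ∈ D.group F, gA θ₁ g ∈ (D.posUnipotent F).map (MulAut.conj (b * n)).toMonoidHom ↔
      g ∈ D.negUnipotent F := by
    intro g hgG
    have e1 : ∀ z : GL D.Idx F, z ∈ (D.posUnipotent F).map (MulAut.conj (b * n)).toMonoidHom ↔
        (gA θ₁ n₀)⁻¹ * z * gA θ₁ n₀ ∈ D.posUnipotent F := by
      intro z
      rw [hg]
      constructor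
      · rintro ⟨v, hv, rfl⟩
        have := mul_mem (mul_mem (inv_mem hu') hv) hu'
        simpa [mul_assoc] using this
      · intro hz
        exact ⟨_, mul_mem (mul_mem hu' hz) (inv_mem hu'), by simp [mul_assoc]⟩
    rw [e1, ← gA_inv θ₁ hn₀G, ← gA_mul θ₁ (inv_mem hn₀G) hgG,
      ← gA_mul θ₁ (mul_mem (inv_mem hn₀G) hgG) hn₀G,
      hθ₁ _ (mul_mem (mul_mem (inv_mem hn₀G) hgG) hn₀G), ← e₀]
    exact ⟨fun h => ⟨_, h, by simp [mul_assoc]⟩,
      fun ⟨v, hv, ev⟩ => by rw [← ev]; simpa [mul_assoc] using hv⟩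
  -- the Weyl element is the longest
  have hlong : ∀ s, IsPos D s.val → ¬ IsPos D (G.full.pw L s).val := by
    intro s hs hs'
    obtain ⟨c, hc⟩ := hL
    set z := b * (n * G.full.x s.val 1 * n⁻¹) * b⁻¹ with hz
    have hzU : z ∈ D.posUnipotent F := by
      rw [hz, (hc s).2.2.2, mul_one]
      have hm := G.x_mem_pos (F := F) hs' (c s : F)
      exact ((G.mem_borel_iff hbG).mp hb _ (G.pos_le_group hm)).mp hm
    have hzG := G.pos_le_group hzU
    have hv : z ∈ (D.posUnipotent F).map (MulAut.conj (b * n)).toMonoidHom :=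
      ⟨_, G.x_mem_pos hs 1, by simp [hz, mul_assoc]⟩
    have hy := gA_mem θ₁.symm hzG
    have h1 : gA θ₁.symm z ∈ D.posUnipotent F :=
      (hθ₁ _ hy).mp (by rwa [gA_symm θ₁ hzG])
    have h2 : gA θ₁.symm z ∈ D.negUnipotent F :=
      (hneg _ hy).mp (by rwa [gA_symm θ₁ hzG])
    have h3 := congrArg (gA θ₁) (G.pos_inf_neg h1 h2)
    rw [gA_symm θ₁ hzG, gA_one, hz, conj_eq_one_iff, conj_eq_one_iff] at h3
    exact one_ne_zero (G.x_eq_one s.isLt h3)
  have hnV : (D.posUnipotent F).map (MulAut.conj n).toMonoidHom = D.negUnipotent F := by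
    obtain ⟨c, hc⟩ := hL
    refine le_antisymm ?_ ?_
    · rw [Subgroup.map_le_iff_le_comap, G.posUnipotent_eq, Good.US, Subgroup.closure_le]
      rintro _ ⟨r, hr, t, rfl⟩
      show n * G.full.x r t * n⁻¹ ∈ D.negUnipotent F
      rw [(hc ⟨r, hr.1⟩).2.2.2]
      exact G.x_mem_neg (Fin.isLt _) (hlong ⟨r, hr.1⟩ hr) _
    · rw [G.negUnipotent_eq, Good.US, Subgroup.closure_le]
      rintro _ ⟨r, ⟨hr, hrn⟩, t, rfl⟩
      set s := (G.full.pw L).symm ⟨r, hr⟩ with hs
      have hsp : IsPos D s.val := by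
        by_contra hns
        have h1 := hlong (negF s) (G.pos_negF.mpr hns)
        rw [(hc s).1, G.pos_negF, not_not, hs, Equiv.apply_symm_apply] at h1
        exact hrn h1.2
      refine ⟨G.full.x s.val (((c s)⁻¹ : Fˣ) * t), G.x_mem_pos hsp _, ?_⟩
      show n * _ * n⁻¹ = _
      rw [(hc s).2.2.2, ← mul_assoc, Units.mul_inv, one_mul, hs, Equiv.apply_symm_apply]
  -- remove `b`
  obtain ⟨v, hv, d, rfl⟩ := G.mem_borel.mp hb
  have hd : T.hT F d ∈ D.diagonalSubgroup F := by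
    rw [G.full.diagonal_eq_range]; exact ⟨d, rfl⟩
  have hvG := G.pos_le_group hv
  let θ₂ : ↥(D.group F) ≃* ↥(D.group F) := θ₁.trans (MulAut.conj ⟨v, hvG⟩⁻¹)
  have hθ₂ : ∀ g ∈ D.group F, gA θ₂ g = v⁻¹ * gA θ₁ g * v := fun g hg => by
    rw [gA_eq θ₂ hg, gA_eq θ₁ hg]
    simp [θ₂, mul_assoc]
  refine ⟨x * ⟨v, hvG⟩, θ₂, ⟨fun g hg => ?_, fun g hg => ?_⟩, fun y => ?_⟩
  · rw [hθ₂ g hg, ← hθ₁ g hg]
    constructor
    · intro h
      simpa [mul_assoc] using mul_mem (mul_mem hv h) (inv_mem hv)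
    · intro h
      exact mul_mem (mul_mem (inv_mem hv) h) hv
  · rw [hθ₂ g hg, ← hneg g hg]
    have hN := Subgroup.mem_normalizer_iff.mp (G.diagonal_le_normalizer_neg hd)
    constructor
    · intro h
      have h2 := (hN ((T.hT F d)⁻¹ * (v⁻¹ * gA θ₁ g * v) * T.hT F d)).mpr
        (by simpa [mul_assoc] using h)
      rw [← hnV] at h2
      obtain ⟨w, hw, e⟩ := h2
      refine ⟨w, hw, ?_⟩
      rw [show (MulAut.conj (v * T.hT F d * n)).toMonoidHom w =
        v * (T.hT F d * (MulAut.conj n).toMonoidHom w * (T.hT F d)⁻¹) * v⁻¹ by simp [mul_assoc], e]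
      group
    · rintro ⟨w, hw, e⟩
      have hm : n * w * n⁻¹ ∈ D.negUnipotent F := hnV ▸ ⟨w, hw, rfl⟩
      have h2 := (hN _).mp hm
      rw [← e]
      simpa [mul_assoc] using h2
  · show θ y = _
    simp [θ₂, θ₁, mul_assoc]

end Good

end Tab

end CfsgLib.Chev
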