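import Cfsg.Agent.ChevAut.Main
import Cfsg.Prelude.Def_KGroupFacts

/-!
Standard representatives of the outer automorphism classes and when two of them give the same
class.
-/

set_option autoImplicit false

namespace CfsgLib.Chev

open Cfsg.Lie Matrix
open scoped MatrixGroups

namespace Tab

variable {D : ChevalleyDatum} {T : Tab D} (G : T.Good) {F : Type*} [Field F]

theorem gA_comp (M₁ M₂ : MulAut ↥(D.group F)) {g : GL D.Idx F} (hg : g ∈ D.group F) :
    gA (M₁ * M₂ : MulAut ↥(D.group F)) g = gA M₁ (gA M₂ g) := by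
  rw [gA_eq _ hg, gA_eq M₂ hg, gA_coe]
  rfl

theorem gA_conjAut (x : ↥(D.group F)) {g : GL D.Idx F} (hg : g ∈ D.group F) :
    gA (MulAut.conj x) g = (x : GL D.Idx F) * g * (x : GL D.Idx F)⁻¹ := by
  rw [gA_eq _ hg]
  rfl

theorem FixUV.comp {M₁ M₂ : MulAut ↥(D.group F)} (h₁ : FixUV M₁) (h₂ : FixUV M₂) :
    FixUV (M₁ * M₂ : MulAut ↥(D.group F)) :=
  ⟨fun g hg => by rw [gA_comp M₁ M₂ hg, h₁.pos _ (gA_mem _ hg), h₂.pos g hg],
    fun g hg => by rw [gA_comp M₁ M₂ hg, h₁.neg _ (gA_mem _ hg), h₂.neg g hg]⟩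

/-- An automorphism fixing `U`, `V` with permutation `π` of the nodes. -/
def IsRep (G : T.Good) (M : MulAut ↥(D.group F)) (π : Equiv.Perm (Fin D.rank)) : Prop :=
  FixUV M ∧ ∃ a b, Acts G M π a b

/-- The exponent of the graph automorphism of `π` at a node. -/
noncomputable def expAt (D : ChevalleyDatum) (F : Type*) [Field F] (π : Equiv.Perm (Fin D.rank))
    (i : Fin D.rank) : ℕ :=
  D.graphExp (ringChar F) i (π i)

/-- The automorphism acts as diagonal times graph times field. -/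
def IsStd (G : T.Good) (M : MulAut ↥(D.group F)) (χ : ℕ → Fˣ) (π : Equiv.Perm (Fin D.rank))
    (σ : F ≃+* F) : Prop :=
  FixUV M ∧ Acts G M π (fun i t => (χ (D.simple (π i)) : F) * σ t ^ expAt D F π i)
    fun i t => (χ (negR D (D.simple (π i))) : F) * σ t ^ expAt D F π i

theorem IsStd.isRep {G : T.Good} {M : MulAut ↥(D.group F)} {χ : ℕ → Fˣ}
    {π : Equiv.Perm (Fin D.rank)} {σ : F ≃+* F} (h : IsStd G M χ π σ) : IsRep G M π :=
  ⟨h.1, _, _, h.2⟩

namespace Good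

include G

theorem expAt_one (i : Fin D.rank) : expAt D F 1 i = 1 := by
  simp [expAt, ChevalleyDatum.graphExp]

theorem aut_ext {M₁ M₂ : MulAut ↥(D.group F)}
    (hpos : ∀ (i : Fin D.rank) (t : F),
      gA M₁ (G.full.x (D.simple i) t) = gA M₂ (G.full.x (D.simple i) t))
    (hneg : ∀ (i : Fin D.rank) (t : F),
      gA M₁ (G.full.x (negR D (D.simple i)) t) = gA M₂ (G.full.x (negR D (D.simple i)) t)) :
    M₁ = M₂ := by
  have h : M₁.toMonoidHom = M₂.toMonoidHom := by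
    refine G.hom_ext_simple fun y i t hy => Subtype.ext ?_
    show (M₁ y : GL D.Idx F) = (M₂ y : GL D.Idx F)
    rw [← gA_coe, ← gA_coe]
    rcases hy with hy | hy
    · rw [G.full.eq_x.mp hy]; exact hpos i t
    · rw [G.full.cert.neg_eq (G.full.simple_lt i.isLt)] at hy
      rw [G.full.eq_x.mp hy]; exact hneg i t
  exact MulEquiv.ext fun y => DFunLike.congr_fun h y

theorem fixUV_of_root [Finite F] {M : MulAut ↥(D.group F)}
    (h : ∀ r < D.nroots, ∀ t : F, ∃ u, gA M (G.full.x r t) = G.full.x r u) : FixUV M := by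
  have key : ∀ S : Set ℕ, (∀ s ∈ S, s < D.nroots) →
      ∀ g ∈ G.US F S, gA M g ∈ G.US F S := by
    intro S hS g hg
    induction hg using Subgroup.closure_induction with
    | mem y hy =>
      obtain ⟨r, hr, t, rfl⟩ := hy
      obtain ⟨u, hu⟩ := h r (hS r hr) t
      rw [hu]
      exact G.x_mem_US hr u
    | one => rw [gA_one]; exact one_mem _
    | mul p q hp hq hp' hq' =>
      rw [gA_mul M (G.US_le_group S hp) (G.US_le_group S hq)]; exact mul_mem hp' hq'
    | inv p hp hp' => rw [gA_inv M (G.US_le_group S hp)]; exact inv_mem hp'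
  refine fixUV_of_maps ?_ ?_
  · rw [G.posUnipotent_eq]; exact fun g _ => key _ (fun s hs => hs.1) g
  · rw [G.negUnipotent_eq]; exact fun g _ => key _ (fun s hs => hs.1) g

theorem diag_apply (hD : D ∈ [chevG2, chevB2, chevD4, chevF4, chevE6, chevE7, chevE8])
    {χ : ℕ → Fˣ} (hχ : D.IsRootCharacter χ) {d : MulAut ↥(D.group F)}
    (hd : ∀ y : ↥(D.group F),
      (d y : GL D.Idx F) = charUnit D χ * (y : GL D.Idx F) * (charUnit D χ)⁻¹)
    {r : ℕ} (hr : r < D.nroots) (t : F) :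
    gA d (G.full.x r t) = G.full.x r ((χ r : F) * t) := by
  rw [gA_eq d (G.x_mem_group _ _), hd]
  exact G.charUnit_conj_x hD hχ hr t

theorem field_apply {σ : F ≃+* F} {f : MulAut ↥(D.group F)}
    (hf : ∀ y : ↥(D.group F), (f y : GL D.Idx F) = glMap D σ.toRingHom (y : GL D.Idx F))
    (r : ℕ) (t : F) : gA f (G.full.x r t) = G.full.x r (σ t) := by
  rw [gA_eq f (G.x_mem_group _ _), hf]
  exact G.glMap_x _ r t

theorem isStd_comp [Finite F]
    (hD : D ∈ [chevG2, chevB2, chevD4, chevF4, chevE6, chevE7, chevE8])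
    {χ : ℕ → Fˣ} (hχ : D.IsRootCharacter χ) {d g f : MulAut ↥(D.group F)}
    (hd : ∀ y : ↥(D.group F),
      (d y : GL D.Idx F) = charUnit D χ * (y : GL D.Idx F) * (charUnit D χ)⁻¹)
    {π : Equiv.Perm (Fin D.rank)} (hg : GraphFor D g π) (hgfix : FixUV g) {σ : F ≃+* F}
    (hf : ∀ y : ↥(D.group F), (f y : GL D.Idx F) = glMap D σ.toRingHom (y : GL D.Idx F)) :
    IsStd G (d * g * f : MulAut ↥(D.group F)) χ π σ := by
  refine ⟨((G.fixUV_of_root fun r hr t => ⟨_, G.diag_apply hD hχ hd hr t⟩).comp hgfix).comp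
    (G.fixUV_of_root fun r _ t => ⟨_, G.field_apply hf r t⟩), fun i t => ?_, fun i t => ?_⟩ <;>
    rw [gA_comp _ f (G.x_mem_group _ _), G.field_apply hf, gA_comp d g (G.x_mem_group _ _)]
  · rw [(GraphFor.apply G hg i _).1, G.diag_apply hD hχ hd (G.full.simple_lt (π i).isLt)]
    rfl
  · rw [(GraphFor.apply G hg i _).2,
      G.diag_apply hD hχ hd (Cert.negR_lt (G.full.simple_lt (π i).isLt))]
    rfl

theorem isRep_mul {M₁ M₂ : MulAut ↥(D.group F)} {π₁ π₂ : Equiv.Perm (Fin D.rank)}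
    (h₁ : IsRep G M₁ π₁) (h₂ : IsRep G M₂ π₂) :
    IsRep G (M₁ * M₂ : MulAut ↥(D.group F)) (π₁ * π₂) := by
  obtain ⟨f₁, a₁, b₁, hA₁⟩ := h₁
  obtain ⟨f₂, a₂, b₂, hA₂⟩ := h₂
  refine ⟨f₁.comp f₂, fun i t => a₁ (π₂ i) (a₂ i t), fun i t => b₁ (π₂ i) (b₂ i t),
    fun i t => ?_, fun i t => ?_⟩ <;> rw [gA_comp M₁ M₂ (G.x_mem_group _ _)]
  · rw [hA₂.pos, hA₁.pos]; rfl
  · rw [hA₂.neg, hA₁.neg]; rfl

theorem exists_torus_of_class_eq {M₁ M₂ : MulAut ↥(D.group F)}
    (f₁ : FixUV M₁) (f₂ : FixUV M₂)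
    (he : (M₁ : Cfsg.Out ↥(D.group F)) = (M₂ : Cfsg.Out ↥(D.group F))) :
    ∃ c : Fin D.rank → Fˣ, ∀ g ∈ D.group F,
      gA M₁ g = T.hT F c * gA M₂ g * (T.hT F c)⁻¹ := by
  have h1 : M₁ * M₂⁻¹ ∈ Cfsg.Inn ↥(D.group F) := by
    have h3 := QuotientGroup.eq.mp he.symm
    have := (Cfsg.innNormal ↥(D.group F)).conj_mem _ h3 M₂
    simpa [mul_assoc] using this
  obtain ⟨x, hx⟩ := MonoidHom.mem_range.mp h1
  have hfix : FixUV (MulAut.conj x) := by
    rw [hx]; exact f₁.comp f₂.symm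
  have hH : (x : GL D.Idx F) ∈ D.diagonalSubgroup F := by
    refine (G.mem_diagonal_iff x.2).mpr ⟨fun y hy => ?_, fun y hy => ?_⟩
    · have := hfix.pos y hy
      rw [gA_conjAut x hy] at this
      exact this.symm
    · have := hfix.neg y hy
      rw [gA_conjAut x hy] at this
      exact this.symm
  rw [G.full.diagonal_eq_range] at hH
  obtain ⟨c, hc⟩ := hH
  refine ⟨c, fun g hg => ?_⟩
  rw [hc, ← gA_conjAut x (gA_mem M₂ hg), ← gA_comp (MulAut.conj x) M₂ hg, hx, inv_mul_cancel_right]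

theorem isRep_unique {M₁ M₂ : MulAut ↥(D.group F)} {π₁ π₂ : Equiv.Perm (Fin D.rank)}
    (h₁ : IsRep G M₁ π₁) (h₂ : IsRep G M₂ π₂)
    (he : (M₁ : Cfsg.Out ↥(D.group F)) = (M₂ : Cfsg.Out ↥(D.group F))) : π₁ = π₂ := by
  obtain ⟨f₁, a₁, b₁, hA₁⟩ := h₁
  obtain ⟨f₂, a₂, b₂, hA₂⟩ := h₂
  obtain ⟨c, hc⟩ := G.exists_torus_of_class_eq f₁ f₂ he
  refine Equiv.ext fun i => G.simple_inj_of_cor ?_
  have e := hc _ (G.x_mem_group (D.simple i) (1 : F))
  rw [hA₁.pos, hA₂.pos, G.full.hT_conj (G.full.simple_lt (π₂ i).isLt)] at e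
  have hne : a₁ i 1 ≠ 0 := fun h =>
    one_ne_zero ((G.acts_inj hA₁ i).1 (h.trans (G.acts_zero hA₁ i).1.symm))
  exact G.x_inj_root (G.full.simple_lt (π₁ i).isLt) (G.full.simple_lt (π₂ i).isLt) hne e

theorem pow_expAt_inj [Finite F] (π : Equiv.Perm (Fin D.rank)) (i : Fin D.rank) :
    Function.Injective fun t : F => t ^ expAt D F π i := by
  cases nonempty_fintype F
  obtain ⟨p, _⟩ := CharP.exists F
  have : Fact p.Prime := ⟨CharP.char_is_prime F p⟩
  intro t u h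
  simp only [expAt, ChevalleyDatum.graphExp, ringChar.eq F p] at h
  split_ifs at h
  · exact frobenius_inj F p h
  · simpa using h

/-- Two standard automorphisms have the same class iff they agree up to the diagonal subgroup. -/
theorem isStd_class_eq_iff [Finite F] (hr0 : 0 < D.rank) {M M' : MulAut ↥(D.group F)}
    {χ χ' : ℕ → Fˣ} (hχ : D.IsRootCharacter χ) (hχ' : D.IsRootCharacter χ')
    {π π' : Equiv.Perm (Fin D.rank)} {σ σ' : F ≃+* F}
    (h : IsStd G M χ π σ) (h' : IsStd G M' χ' π' σ') :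
    ((M : Cfsg.Out ↥(D.group F)) = (M' : Cfsg.Out ↥(D.group F))) ↔
      π = π' ∧ σ = σ' ∧ ∃ c : Fin D.rank → Fˣ, ∀ j : Fin D.rank,
        χ (D.simple j) = T.chi (D.simple j) c * χ' (D.simple j) := by
  constructor
  · intro he
    have hπ := G.isRep_unique h.isRep h'.isRep he
    subst hπ
    obtain ⟨c, hc⟩ := G.exists_torus_of_class_eq h.1 h'.1 he
    have hpos : ∀ (i : Fin D.rank) (t : F), (χ (D.simple (π i)) : F) * σ t ^ expAt D F π i =
        (T.chi (F := F) (D.simple (π i)) c : F) *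
          ((χ' (D.simple (π i)) : F) * σ' t ^ expAt D F π i) := fun i t => by
      have e := hc _ (G.x_mem_group (D.simple i) t)
      rw [h.2.pos, h'.2.pos, G.full.hT_conj (G.full.simple_lt (π i).isLt)] at e
      exact G.x_param_inj (G.full.simple_lt (π i).isLt) e
    have hu : ∀ i : Fin D.rank,
        χ (D.simple (π i)) = T.chi (D.simple (π i)) c * χ' (D.simple (π i)) := fun i => by
      have := hpos i 1
      rw [map_one, map_one, one_pow, mul_one, mul_one, ← Units.val_mul] at this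
      exact Units.ext this
    refine ⟨rfl, RingEquiv.ext fun t => ?_, c, fun j => ?_⟩
    · have := hpos ⟨0, hr0⟩ t
      rw [hu ⟨0, hr0⟩, Units.val_mul, mul_assoc] at this
      exact G.pow_expAt_inj π ⟨0, hr0⟩
        (mul_left_cancel₀ (Units.ne_zero _) (mul_left_cancel₀ (Units.ne_zero _) this))
    · have := hu (π.symm j)
      rwa [Equiv.apply_symm_apply] at this
  · rintro ⟨rfl, rfl, c, hc⟩
    have hcG : T.hT F c ∈ D.group F := G.monomial_le_group (G.hT_mem_monomial c)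
    have e : M = MulAut.conj ⟨T.hT F c, hcG⟩ * M' := by
      refine G.aut_ext (fun i t => ?_) (fun i t => ?_) <;>
        rw [gA_comp _ M' (G.x_mem_group _ _), gA_conjAut _ (gA_mem _ (G.x_mem_group _ _))]
      · rw [h.2.pos, h'.2.pos, G.full.hT_conj (G.full.simple_lt (π i).isLt), hc, Units.val_mul,
          mul_assoc]
      · have hp := G.full.simple_lt (π i).isLt
        rw [h.2.neg, h'.2.neg, G.full.hT_conj (Cert.negR_lt hp), G.chi_negR hp,
          ← G.full.cert.neg_eq hp, hχ.1 _ hp, hχ'.1 _ hp, hc, mul_inv, Units.val_mul, mul_assoc]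
    rw [e, QuotientGroup.eq]
    have := (Cfsg.innNormal ↥(D.group F)).conj_mem _
      (inv_mem (MonoidHom.mem_range.mpr ⟨⟨T.hT F c, hcG⟩, rfl⟩ :
        MulAut.conj ⟨T.hT F c, hcG⟩ ∈ Cfsg.Inn ↥(D.group F))) M'⁻¹
    simpa [mul_assoc] using this

/-- Every class has a standard representative. -/
theorem exists_isStd [Finite F]
    (hD : D ∈ [chevG2, chevB2, chevD4, chevF4, chevE6, chevE7, chevE8])
    (θ : MulAut ↥(D.group F)) :
    ∃ (χ : ℕ → Fˣ) (π : Equiv.Perm (Fin D.rank)) (σ : F ≃+* F)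
      (d g f : MulAut ↥(D.group F)),
      D.IsRootCharacter χ ∧ D.IsDiagonalAut d ∧ D.IsFieldAut f ∧ GraphFor D g π ∧ FixUV g ∧
      IsStd G (d * g * f : MulAut ↥(D.group F)) χ π σ ∧
        (θ : Cfsg.Out ↥(D.group F)) = ((d * g * f : MulAut ↥(D.group F)) : Cfsg.Out ↥(D.group F)) := by
  obtain ⟨x, χ, π, σ, d, g, f, hχ, hdc, hd, -, hg, hgfix, hf, hfy, h⟩ := aut_decomp' hD θ
  refine ⟨χ, π, σ, d, g, f, hχ, hd, hf, hg, hgfix, G.isStd_comp hD hχ hdc hg hgfix hfy, ?_⟩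
  have e : θ = MulAut.conj x * (d * g * f : MulAut ↥(D.group F)) := MulEquiv.ext fun y => h y
  rw [e, QuotientGroup.eq]
  have := (Cfsg.innNormal ↥(D.group F)).conj_mem _
    (inv_mem (MonoidHom.mem_range.mpr ⟨x, rfl⟩ :
      MulAut.conj x ∈ Cfsg.Inn ↥(D.group F))) (d * g * f : MulAut ↥(D.group F))⁻¹
  simpa [mul_assoc] using this

end Good

end Tab

end CfsgLib.Chev
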