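import Cfsg.Agent.ChevAut.SimplePerm

/-! The maps on the parameters of the fundamental root elements are field automorphisms. -/

set_option autoImplicit false

namespace CfsgLib.Chev

open Cfsg.Lie Matrix
open scoped MatrixGroups

namespace Tab

variable {D : ChevalleyDatum} {F : Type*} [Field F]

/-- The images of the fundamental root elements and of their negatives. -/
structure Acts {T : Tab D} (G : T.Good) (θ : ↥(D.group F) ≃* ↥(D.group F))
    (π : Equiv.Perm (Fin D.rank)) (a b : Fin D.rank → F → F) : Prop where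
  pos : ∀ (i : Fin D.rank) (t : F), gA θ (G.full.x (D.simple i) t) = G.full.x (D.simple (π i)) (a i t)
  neg : ∀ (i : Fin D.rank) (t : F), gA θ (G.full.x (negR D (D.simple i)) t) = G.full.x (negR D (D.simple (π i))) (b i t)

namespace Good

variable {T : Tab D} (G : T.Good)
include G

theorem x_param_inj {r : ℕ} (hr : r < D.nroots) {t u : F} (h : G.full.x r t = G.full.x r u) :
    t = u := by
  have h2 : G.full.x r (t + -u) = 1 := by
    rw [← G.full.x_add, h, G.full.x_add, add_neg_cancel, G.full.x_zero]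
  linear_combination G.x_eq_one hr h2

theorem exists_acts (hopp : T.chkOpp = true) {θ : ↥(D.group F) ≃* ↥(D.group F)} (h : FixUV θ) :
    ∃ π a b, Acts G θ π a b := by
  obtain ⟨π, hπ⟩ := G.exists_perm hopp h
  have h1 : ∀ (i : Fin D.rank) (t : F), ∃ v, gA θ (G.full.x (D.simple i) t) = G.full.x (D.simple (π i)) v := fun i t =>
    G.mem_rootSubgroup.mp (((hπ i).1 _ (G.x_mem_group _ t)).mpr (G.mem_rootSubgroup.mpr ⟨t, rfl⟩))
  have h2 : ∀ (i : Fin D.rank) (t : F), ∃ v, gA θ (G.full.x (negR D (D.simple i)) t) =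
      G.full.x (negR D (D.simple (π i))) v := fun i t =>
    G.mem_rootSubgroup.mp (((hπ i).2 _ (G.x_mem_group _ t)).mpr (G.mem_rootSubgroup.mpr ⟨t, rfl⟩))
  choose a ha using h1
  choose b hb using h2
  exact ⟨π, a, b, ha, hb⟩

theorem eq_zero_of_conj_neg (j : Fin D.rank) {d z z' : F} (hz : z ≠ 0)
    (e : G.full.x (D.simple j) d * G.full.x (negR D (D.simple j)) z * (G.full.x (D.simple j) d)⁻¹ =
      G.full.x (negR D (D.simple j)) z') : d = 0 := by
  set p := D.simple j
  have hp := G.full.simple_lt j.isLt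
  have hz' : z' ≠ 0 := by
    intro h0
    rw [h0, G.full.x_zero, conj_eq_one_iff] at e
    exact hz (G.x_eq_one (Cert.negR_lt hp) e)
  rw [G.x_neg_decomp p hz, G.x_neg_decomp p hz', G.full.nr_simple_eq j.isLt,
    G.full.nr_simple_eq j.isLt] at e
  obtain ⟨c, hc⟩ := G.hr_simple_mem (F := F) j (t := -z⁻¹) (neg_ne_zero.mpr (inv_ne_zero hz))
  obtain ⟨c', hc'⟩ := G.hr_simple_mem (F := F) j (t := -z'⁻¹) (neg_ne_zero.mpr (inv_ne_zero hz'))
  rw [hc, hc', G.full.x_inv] at e
  have hx : ∀ t : F, G.full.x p t ∈ D.posUnipotent F := fun t => G.x_mem_pos (G.pos_simp j) t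
  have hfl : ∀ t : F, G.full.x p t ∈ G.US F (flipSet (G.full.refl j)) := fun t => by
    rw [G.flip_refl j]; exact G.x_mem_US (Set.mem_singleton _) t
  have e1 : G.full.x p (d + z⁻¹) * T.hT F c * G.full.ns F j * G.full.x p (z⁻¹ + -d) =
      G.full.x p z'⁻¹ * T.hT F c' * G.full.ns F j * G.full.x p z'⁻¹ := by
    rw [← G.full.x_add, ← G.full.x_add]
    simpa only [mul_assoc] using e
  obtain ⟨-, h2⟩ := G.canonical_unique (mul_mem (G.pos_le_borel (hx _)) (G.borel_hT c))
    (mul_mem (G.pos_le_borel (hx _)) (G.borel_hT c')) (G.ns_mem_monomial j) (G.ns_mem_monomial j)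
    (G.rootAct_ns j) (G.rootAct_ns j) (hfl _) (hfl _) e1
  obtain ⟨hb, hu⟩ := h2 rfl
  have hu' := G.x_param_inj hp hu
  have hm : (G.full.x p z'⁻¹)⁻¹ * G.full.x p (d + z⁻¹) ∈
      D.posUnipotent F ⊓ D.diagonalSubgroup F := by
    refine Subgroup.mem_inf.mpr ⟨mul_mem (inv_mem (hx _)) (hx _), ?_⟩
    have : (G.full.x p z'⁻¹)⁻¹ * G.full.x p (d + z⁻¹) = T.hT F c' * (T.hT F c)⁻¹ := by
      rw [eq_mul_inv_iff_mul_eq, mul_assoc, hb, inv_mul_cancel_left]
    rw [this, G.full.diagonal_eq_range]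
    exact mul_mem ⟨_, rfl⟩ (inv_mem ⟨_, rfl⟩)
  rw [G.pos_inf_diagonal, Subgroup.mem_bot, inv_mul_eq_one] at hm
  have hd' := G.x_param_inj hp hm
  rw [hm] at hb
  have hh : T.hT F c = T.hT F c' := mul_left_cancel hb
  have h5 := G.full.hr_conj_simple j.isLt hp (neg_ne_zero.mpr (inv_ne_zero hz)) (1 : F)
  have h6 := G.full.hr_conj_simple j.isLt hp (neg_ne_zero.mpr (inv_ne_zero hz')) (1 : F)
  rw [hc, hh, ← hc'] at h5
  have h7 := G.x_param_inj hp (h5.symm.trans h6)
  rw [(G.full.node_spec j.isLt).2.2.1, mul_one, mul_one, zpow_two, zpow_two] at h7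
  have h2d : (2 : F) * d = 0 := by linear_combination -hd' - hu'
  rcases mul_eq_zero.mp h2d with h20 | h0
  · have hsq : (z⁻¹ - z'⁻¹) * (z⁻¹ - z'⁻¹) = 0 := by
      linear_combination h7 + (z'⁻¹ * z'⁻¹ - z⁻¹ * z'⁻¹) * h20
    linear_combination -hd' - (mul_self_eq_zero.mp hsq)
  · exact h0

variable {θ : ↥(D.group F) ≃* ↥(D.group F)} {π : Equiv.Perm (Fin D.rank)}
  {a b : Fin D.rank → F → F}

theorem acts_add (hA : Acts G θ π a b) (i : Fin D.rank) (t u : F) :
    a i (t + u) = a i t + a i u ∧ b i (t + u) = b i t + b i u := by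
  constructor
  · refine G.x_param_inj (G.full.simple_lt (π i).isLt) ?_
    rw [← hA.pos, ← G.full.x_add, gA_mul θ (G.x_mem_group _ _) (G.x_mem_group _ _), hA.pos, hA.pos,
      G.full.x_add]
  · refine G.x_param_inj (Cert.negR_lt (G.full.simple_lt (π i).isLt)) ?_
    rw [← hA.neg, ← G.full.x_add, gA_mul θ (G.x_mem_group _ _) (G.x_mem_group _ _), hA.neg, hA.neg,
      G.full.x_add]

theorem acts_inj (hA : Acts G θ π a b) (i : Fin D.rank) :
    Function.Injective (a i) ∧ Function.Injective (b i) := by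
  constructor <;> intro t u h
  · refine G.x_param_inj (G.full.simple_lt i.isLt)
      (gA_inj θ (G.x_mem_group _ _) (G.x_mem_group _ _) ?_)
    rw [hA.pos, hA.pos, h]
  · refine G.x_param_inj (Cert.negR_lt (G.full.simple_lt i.isLt))
      (gA_inj θ (G.x_mem_group _ _) (G.x_mem_group _ _) ?_)
    rw [hA.neg, hA.neg, h]

theorem acts_zero (hA : Acts G θ π a b) (i : Fin D.rank) : a i 0 = 0 ∧ b i 0 = 0 := by
  obtain ⟨h1, h2⟩ := G.acts_add hA i 0 0
  rw [add_zero] at h1 h2
  exact ⟨by linear_combination h1.symm, by linear_combination h2.symm⟩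

theorem acts_neg (hA : Acts G θ π a b) (i : Fin D.rank) (t : F) : a i (-t) = - a i t := by
  have h := (G.acts_add hA i t (-t)).1
  rw [add_neg_cancel, (G.acts_zero hA i).1] at h
  linear_combination -h

/-- The `n` elements follow the parameters. -/
theorem acts_nr (hA : Acts G θ π a b) {i : Fin D.rank} (h1 : a i 1 = 1) {t : F} (ht : t ≠ 0) :
    b i (-t⁻¹) = -(a i t)⁻¹ ∧
      gA θ (G.full.nr (D.simple i) t) = G.full.nr (D.simple (π i)) (a i t) := by
  set p := D.simple i with hp'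
  set q := D.simple (π i) with hq'
  have hp := G.full.simple_lt i.isLt
  have hq := G.full.simple_lt (π i).isLt
  set α := a i t
  set γ := b i (-t⁻¹)
  have hγ : γ ≠ 0 := fun h0 => (neg_ne_zero.mpr (inv_ne_zero ht))
    ((G.acts_inj hA i).2 (h0.trans (G.acts_zero hA i).2.symm))
  have hn : gA θ (G.full.nr p t) =
      G.full.x q α * G.full.x (negR D q) γ * G.full.x q α := by
    rw [Full.nr, gA_mul θ (mul_mem (G.x_mem_group _ _) (G.x_mem_group _ _)) (G.x_mem_group _ _),
      gA_mul θ (G.x_mem_group _ _) (G.x_mem_group _ _), hA.pos, hA.neg]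
  have hc := G.full.nr_conj i.isLt hp ht (1 : F)
  rw [G.full.simple_reflect i.isLt] at hc
  have hc' := congrArg (gA θ) hc
  rw [gA_conj θ (G.nr_mem_group _ _) (G.x_mem_group _ _), hn, hA.pos, h1, hA.neg, ← hq'] at hc'
  set z' := b i (t ^ (-(T.cart i p)) * (T.sgn i p : F) * 1)
  set d := α + γ⁻¹
  set ν := G.full.nr q (-γ⁻¹) with hν
  have hg : G.full.x q α * G.full.x (negR D q) γ * G.full.x q α =
      G.full.x q d * ν * G.full.x q d := by
    rw [G.x_neg_decomp q hγ, show d = α + γ⁻¹ from rfl]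
    calc G.full.x q α * (G.full.x q γ⁻¹ * G.full.nr q (-γ⁻¹) * G.full.x q γ⁻¹) * G.full.x q α
        = G.full.x q α * G.full.x q γ⁻¹ * G.full.nr q (-γ⁻¹) *
            (G.full.x q γ⁻¹ * G.full.x q α) := by group
      _ = _ := by rw [G.full.x_add, G.full.x_add, add_comm γ⁻¹]
  have hconj := G.full.nr_conj (π i).isLt hq (neg_ne_zero.mpr (inv_ne_zero hγ)) (1 : F)
  rw [G.full.simple_reflect (π i).isLt, ← hq', ← hν] at hconj
  rw [hg] at hc'
  have hcomm : G.full.x q d * G.full.x q 1 * (G.full.x q d)⁻¹ = G.full.x q 1 := by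
    rw [G.full.x_inv, G.full.x_add, G.full.x_add, add_neg_cancel_comm]
  have e : G.full.x q d * (ν * G.full.x q 1 * ν⁻¹) * (G.full.x q d)⁻¹ =
      G.full.x (negR D q) z' := by
    rw [← hc']
    calc G.full.x q d * (ν * G.full.x q 1 * ν⁻¹) * (G.full.x q d)⁻¹
        = G.full.x q d * ν * (G.full.x q d * G.full.x q 1 * (G.full.x q d)⁻¹) * ν⁻¹ *
            (G.full.x q d)⁻¹ := by
          rw [hcomm]; group
      _ = _ := by group
  rw [hconj] at e
  have hd0 : d = 0 := by
    refine G.eq_zero_of_conj_neg (π i) ?_ e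
    rw [(G.full.node_spec (π i).isLt).2.2.2.1]
    simpa using zpow_ne_zero _ (neg_ne_zero.mpr (inv_ne_zero hγ))
  have hαγ : α ≠ 0 := fun h0 => ht ((G.acts_inj hA i).1 (h0.trans (G.acts_zero hA i).1.symm))
  have hγα : γ = -α⁻¹ := by
    have : γ⁻¹ = -α := by linear_combination hd0
    rw [← inv_inv γ, this, neg_inv]
  refine ⟨hγα, ?_⟩
  rw [hn, hγα]
  rfl

theorem acts_sq_mul (hA : Acts G θ π a b) {i : Fin D.rank} (h1 : a i 1 = 1) {t : F} (ht : t ≠ 0)
    (u : F) : a i (t * t * u) = a i t * a i t * a i u := by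
  have hαt : a i t ≠ 0 := fun h0 => ht ((G.acts_inj hA i).1 (h0.trans (G.acts_zero hA i).1.symm))
  have hm1 : a i (-1) = -1 := by rw [G.acts_neg hA, h1]
  have hh : gA θ (G.full.hr (D.simple i) t) = G.full.hr (D.simple (π i)) (a i t) := by
    rw [Full.hr, gA_mul θ (G.nr_mem_group _ _) (G.nr_mem_group _ _), (G.acts_nr hA h1 ht).2,
      (G.acts_nr hA h1 (neg_ne_zero.mpr one_ne_zero)).2, hm1, Full.hr]
  have hp := G.full.simple_lt i.isLt
  have hq := G.full.simple_lt (π i).isLt
  have hc := congrArg (gA θ) (G.full.hr_conj_simple i.isLt hp ht u)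
  rw [gA_conj θ (show G.full.hr (D.simple i) t ∈ D.group F from
      mul_mem (G.nr_mem_group _ _) (G.nr_mem_group _ _)) (G.x_mem_group _ _), hh,
    hA.pos, hA.pos, G.full.hr_conj_simple (π i).isLt hq hαt] at hc
  have h := G.x_param_inj hq hc
  rw [(G.full.node_spec i.isLt).2.2.1, (G.full.node_spec (π i).isLt).2.2.1, zpow_two,
    zpow_two] at h
  exact h.symm

theorem acts_mul [Finite F] (hA : Acts G θ π a b) {i : Fin D.rank} (h1 : a i 1 = 1) (t u : F) :
    a i (t * u) = a i t * a i u := by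
  have key : ∀ s v, a i (s * s * v) = a i s * a i s * a i v := fun s v => by
    rcases eq_or_ne s 0 with rfl | hs
    · simp [(G.acts_zero hA i).1]
    · exact G.acts_sq_mul hA h1 hs v
  by_cases h2 : (2 : F) = 0
  · have hsq : Function.Surjective fun s : F => s * s := by
      refine Finite.injective_iff_surjective.mp fun x y e => ?_
      have h : (x - y) * (x - y) = 0 := by linear_combination e + (y * y - x * y) * h2
      exact sub_eq_zero.mp (mul_self_eq_zero.mp h)
    obtain ⟨s, rfl⟩ := hsq t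
    show a i (s * s * u) = a i (s * s) * a i u
    rw [key, show a i (s * s) = a i s * a i s by simpa [h1] using key s 1]
  · have e1 := key (t + 1) u
    rw [show (t + 1) * (t + 1) * u = t * t * u + (t * u + t * u) + u by ring,
      (G.acts_add hA i _ _).1, (G.acts_add hA i _ _).1, (G.acts_add hA i _ _).1, key,
      (G.acts_add hA i _ _).1, h1] at e1
    have : (2 : F) * (a i (t * u) - a i t * a i u) = 0 := by linear_combination e1
    exact sub_eq_zero.mp ((mul_eq_zero.mp this).resolve_left h2)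

/-- Normalised maps are field automorphisms, the same on a root and its negative. -/
theorem exists_ringEquiv [Finite F] (hA : Acts G θ π a b) (h1 : ∀ i, a i 1 = 1) :
    ∃ σ : Fin D.rank → F ≃+* F, Acts G θ π (fun i => σ i) fun i => σ i := by
  let σ : Fin D.rank → F ≃+* F := fun i => RingEquiv.ofBijective
    (RingHom.mk' ⟨⟨a i, h1 i⟩, G.acts_mul hA (h1 i)⟩ fun t u => (G.acts_add hA i t u).1)
    (Finite.injective_iff_bijective.mp (G.acts_inj hA i).1)
  refine ⟨σ, hA.pos, fun i t => ?_⟩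
  rw [hA.neg]
  congr 1
  show b i t = a i t
  rcases eq_or_ne t 0 with rfl | ht
  · rw [(G.acts_zero hA i).1, (G.acts_zero hA i).2]
  have ht' : -t⁻¹ ≠ 0 := neg_ne_zero.mpr (inv_ne_zero ht)
  have h := (G.acts_nr hA (h1 i) ht').1
  rw [show (-(-t⁻¹)⁻¹ : F) = t by simp [inv_neg]] at h
  rw [h, G.acts_neg hA, neg_inv, neg_neg]
  refine inv_eq_of_mul_eq_one_right ?_
  rw [← G.acts_mul hA (h1 i), inv_mul_cancel₀ ht, h1]

end Good

end Tab

end CfsgLib.Chev
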