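import Cfsg.Agent.ChevAut.RankOneMaps
import Cfsg.Prelude.Def_ChevAutomorphisms

/-! What an automorphism fixing `U` and `V` says about the diagram. -/

set_option autoImplicit false

namespace CfsgLib.Chev

open Cfsg.Lie Matrix
open scoped MatrixGroups

namespace Tab

variable {D : ChevalleyDatum}

/-- The word acts trivially on the roots. -/
def idWord (T : Tab D) (L : List ℕ) : Bool :=
  allBelow (fun s => Nat.beq (T.wordT L s) s) D.nroots

/-- Bonds read off the orders of products of two reflections. -/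
def braidBond (T : Tab D) (i j : ℕ) : ℤ :=
  if T.idWord [i, j, i, j] then 0
  else if T.idWord [i, j, i, j, i, j] then 1
  else if T.idWord [i, j, i, j, i, j, i, j] then 2 else 3

/-- The bonds are those of the reflections. -/
def chkBonds (T : Tab D) : Bool :=
  allBelow (fun i => allBelow (fun j =>
    Nat.beq i j || decide (D.bonds i j = T.braidBond i j)) D.rank) D.rank

/-- An edge with a Cartan number `-1`. -/
def edge1 (T : Tab D) (k j : ℕ) : Bool :=
  decide (T.cart k (D.simple j) = -1) || decide (T.cart j (D.simple k) = -1)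

/-- Node `j` is reached from node `0` in at most `n` edges. -/
def reach (T : Tab D) : ℕ → ℕ → Bool
  | 0, j => Nat.beq j 0
  | n + 1, j => Nat.beq j 0 || (List.range D.rank).any fun k => T.edge1 k j && reach T n k

/-- The diagram is connected. -/
def chkLinked (T : Tab D) : Bool := allBelow (fun j => T.reach D.rank j) D.rank

/-- Two root subgroups which commute, while their images commute only in characteristic `p`. -/
def chkWit (T : Tab D) (p r r' s s' : ℕ) : Bool :=
  T.chkCommute 0 r r' && !(Nat.beq s' s) && !(Nat.beq s' (negR D s)) &&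
    match T.commT s s' with
    | [c] => Nat.beq c.2.1.natAbs p && Nat.blt c.1 D.nroots
    | _ => false

/-- The structural checks used for automorphisms. -/
def chkAut (T : Tab D) : Bool := T.chkOpp && T.chkBonds && T.chkLinked

namespace Good

variable {T : Tab D} (G : T.Good) {F : Type*} [Field F]
  {θ : ↥(D.group F) ≃* ↥(D.group F)} {π : Equiv.Perm (Fin D.rank)} {a b : Fin D.rank → F → F}
include G

theorem acts_nw (hA : Acts G θ π a b) (h1 : ∀ i, a i 1 = 1) :
    ∀ L : List (Fin D.rank), gA θ (G.full.nw F L) = G.full.nw F (L.map π)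
  | [] => by simp [Full.nw, gA_one]
  | i :: L => by
    rw [List.map_cons, G.nw_cons, G.nw_cons,
      gA_mul θ (G.ns_mem_group i) (G.monomial_le_group (G.nw_mem_monomial L)), acts_nw hA h1 L,
      Full.ns, (G.acts_nr hA (h1 i) one_ne_zero).2, h1 i]
    rfl

theorem nw_mem_diagonal_iff (L : List (Fin D.rank)) :
    G.full.nw F L ∈ D.diagonalSubgroup F ↔ G.full.pw L = 1 := by
  refine ⟨fun h => ?_, fun h => G.mem_diagonal_of_pos (G.nw_mem_monomial L) (G.rootAct_nw L)
    fun s hs => by rw [h]; exact hs⟩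
  rw [G.full.diagonal_eq_range] at h
  obtain ⟨c, hc⟩ := h
  refine G.rootAct_unique (g := G.full.nw F L) (G.rootAct_nw L) ?_
  rw [← hc]
  exact G.rootAct_hT c

theorem idWord_iff (L : List (Fin D.rank)) :
    T.idWord (L.map Fin.val) = true ↔ G.full.pw L = 1 := by
  simp only [idWord, allBelow_iff, Nat.beq_eq]
  refine ⟨fun h => Equiv.ext fun s => Fin.ext ?_, fun h s hs => ?_⟩
  · rw [G.pw_apply]; exact h s.val s.isLt
  · rw [← G.pw_apply L ⟨s, hs⟩, h]; rfl

theorem acts_idWord (hfix : FixUV θ) (hA : Acts G θ π a b) (h1 : ∀ i, a i 1 = 1)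
    (L : List (Fin D.rank)) :
    T.idWord ((L.map π).map Fin.val) = T.idWord (L.map Fin.val) := by
  rw [Bool.eq_iff_iff, G.idWord_iff, G.idWord_iff, ← G.nw_mem_diagonal_iff (F := F),
    ← G.nw_mem_diagonal_iff (F := F), ← G.acts_nw hA h1,
    G.fixUV_diagonal hfix (G.monomial_le_group (G.nw_mem_monomial L))]

theorem acts_symmetry (hb : T.chkBonds = true) (hfix : FixUV θ) (hA : Acts G θ π a b)
    (h1 : ∀ i, a i 1 = 1) : D.IsDiagramSymmetry π := by
  intro i j hij
  simp only [chkBonds, allBelow_iff, Bool.or_eq_true, Nat.beq_eq, decide_eq_true_eq] at hb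
  rw [(hb _ (π i).isLt _ (π j).isLt).resolve_left fun e => hij (π.injective (Fin.ext e)),
    (hb _ i.isLt _ j.isLt).resolve_left fun e => hij (Fin.ext e)]
  have e4 := G.acts_idWord hfix hA h1 [i, j, i, j]
  have e6 := G.acts_idWord hfix hA h1 [i, j, i, j, i, j]
  have e8 := G.acts_idWord hfix hA h1 [i, j, i, j, i, j, i, j]
  simp only [List.map_cons, List.map_nil] at e4 e6 e8
  simp only [braidBond, e4, e6, e8]

theorem acts_cart {σ : Fin D.rank → F ≃+* F} (hA : Acts G θ π (fun i => σ i) fun i => σ i)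
    (i j : Fin D.rank) {t : F} (ht : t ≠ 0) :
    σ i t ^ T.cart (π i) (D.simple (π j)) = σ j t ^ T.cart i (D.simple j) := by
  have hm1 : σ i (-1 : F) = -1 := by rw [map_neg, map_one]
  have h1 : (fun i => (σ i : F → F)) i 1 = 1 := map_one (σ i)
  have hh : gA θ (G.full.hr (D.simple i) t) = G.full.hr (D.simple (π i)) (σ i t) := by
    rw [Full.hr, gA_mul θ (G.nr_mem_group _ _) (G.nr_mem_group _ _), (G.acts_nr hA h1 ht).2,
      (G.acts_nr hA h1 (neg_ne_zero.mpr one_ne_zero)).2]
    show _ * G.full.nr _ (σ i (-1)) = _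
    rw [hm1, Full.hr]
  have hj := G.full.simple_lt j.isLt
  have hc := congrArg (gA θ) (G.full.hr_conj_simple i.isLt hj ht (1 : F))
  rw [gA_conj θ (show G.full.hr (D.simple i) t ∈ D.group F from
      mul_mem (G.nr_mem_group _ _) (G.nr_mem_group _ _)) (G.x_mem_group _ _), hh,
    hA.pos, hA.pos, G.full.hr_conj_simple (π i).isLt (G.full.simple_lt (π j).isLt)
      (EmbeddingLike.map_ne_zero_iff.mpr ht)] at hc
  have h := G.x_param_inj (G.full.simple_lt (π j).isLt) hc
  simpa [map_zpow₀] using h

theorem acts_const {σ : Fin D.rank → F ≃+* F} (hc : T.chkLinked = true)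
    (hA : Acts G θ 1 (fun i => σ i) fun i => σ i) (i j : Fin D.rank) : σ i = σ j := by
  have hedge : ∀ k l : Fin D.rank, T.edge1 k l = true → σ k = σ l := by
    intro k l h
    simp only [edge1, Bool.or_eq_true, decide_eq_true_eq] at h
    refine RingEquiv.ext fun t => ?_
    rcases eq_or_ne t 0 with rfl | ht
    · simp
    rcases h with h | h
    · have := G.acts_cart hA k l ht
      simp only [Equiv.Perm.one_apply, h, _root_.zpow_neg_one, _root_.inv_inj] at this
      exact this
    · have := G.acts_cart hA l k ht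
      simp only [Equiv.Perm.one_apply, h, _root_.zpow_neg_one, _root_.inv_inj] at this
      exact this.symm
  have hr : 0 < D.rank := Nat.lt_of_le_of_lt (Nat.zero_le _) i.isLt
  have key : ∀ n (l : Fin D.rank), T.reach n l = true → σ l = σ ⟨0, hr⟩ := by
    intro n
    induction n with
    | zero =>
      intro l h
      rw [show l = ⟨0, hr⟩ from Fin.ext (Nat.eq_of_beq_eq_true h)]
    | succ n ih =>
      intro l h
      simp only [reach, Bool.or_eq_true, Nat.beq_eq, List.any_eq_true, List.mem_range,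
        Bool.and_eq_true] at h
      rcases h with h | ⟨k, hk, he, hn⟩
      · rw [show l = ⟨0, hr⟩ from Fin.ext h]
      · rw [← hedge ⟨k, hk⟩ l he, ih ⟨k, hk⟩ hn]
  simp only [chkLinked, allBelow_iff] at hc
  rw [key _ i (hc _ i.isLt), key _ j (hc _ j.isLt)]

/-- A permutation of the nodes exchanging root lengths needs its characteristic. -/
theorem acts_char (hA : Acts G θ π a b) (h1 : ∀ i, a i 1 = 1) {p : ℕ}
    (L L' : List (Fin D.rank)) (i j : Fin D.rank)
    (hw : T.chkWit p (T.wordT (L.map Fin.val) (D.simple i))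
      (T.wordT (L'.map Fin.val) (D.simple j))
      (T.wordT ((L.map π).map Fin.val) (D.simple (π i)))
      (T.wordT ((L'.map π).map Fin.val) (D.simple (π j))) = true) : (p : F) = 0 := by
  have hel : ∀ (L : List (Fin D.rank)) (i : Fin D.rank), ∃ c : Fˣ,
      G.full.nw F L * G.full.x (D.simple i) 1 * (G.full.nw F L)⁻¹ =
        G.full.x (T.wordT (L.map Fin.val) (D.simple i)) (c : F) := by
    intro L i
    obtain ⟨c, hc⟩ := G.rootAct_nw (F := F) L
    refine ⟨c (G.full.simp' i), ?_⟩
    have := (hc (G.full.simp' i)).2.2.2 1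
    rw [mul_one, G.pw_apply] at this
    exact this
  obtain ⟨c₁, e₁⟩ := hel L i
  obtain ⟨c₂, e₂⟩ := hel L' j
  obtain ⟨d₁, f₁⟩ := hel (L.map π) (π i)
  obtain ⟨d₂, f₂⟩ := hel (L'.map π) (π j)
  have hwlt : ∀ (L : List (Fin D.rank)) (i : Fin D.rank),
      T.wordT (L.map Fin.val) (D.simple i) < D.nroots := fun L i => by
    have := (G.full.pw L (G.full.simp' i)).isLt
    rwa [G.pw_apply] at this
  set r := T.wordT (L.map Fin.val) (D.simple i)
  set r' := T.wordT (L'.map Fin.val) (D.simple j)
  set s := T.wordT ((L.map π).map Fin.val) (D.simple (π i))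
  set s' := T.wordT ((L'.map π).map Fin.val) (D.simple (π j))
  have hs : s < D.nroots := hwlt _ _
  have hs' : s' < D.nroots := hwlt _ _
  simp only [chkWit, Bool.and_eq_true, Bool.not_eq_true'] at hw
  obtain ⟨⟨⟨hcom, hne⟩, hneg⟩, hterm⟩ := hw
  have hm : ∀ L : List (Fin D.rank), G.full.nw F L ∈ D.group F := fun L =>
    G.monomial_le_group (G.nw_mem_monomial L)
  have g₁ : gA θ (G.full.x r (c₁ : F)) = G.full.x s (d₁ : F) := by
    rw [← e₁, gA_conj θ (hm L) (G.x_mem_group _ _), G.acts_nw hA h1, hA.pos, h1, f₁]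
  have g₂ : gA θ (G.full.x r' (c₂ : F)) = G.full.x s' (d₂ : F) := by
    rw [← e₂, gA_conj θ (hm L') (G.x_mem_group _ _), G.acts_nw hA h1, hA.pos, h1, f₂]
  have hc : G.full.x r (c₁ : F) * G.full.x r' (c₂ : F) =
      G.full.x r' (c₂ : F) * G.full.x r (c₁ : F) :=
    (G.x_commute (p := 0) Nat.cast_zero hcom _ _).eq
  have hi := congrArg (gA θ) hc
  rw [gA_mul θ (G.x_mem_group _ _) (G.x_mem_group _ _),
    gA_mul θ (G.x_mem_group _ _) (G.x_mem_group _ _), g₁, g₂] at hi
  have hne' : s' ≠ s := fun e => by rw [e] at hne; simp at hne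
  have hneg' : s' ≠ negR D s := fun e => by rw [e] at hneg; simp at hneg
  have e := G.full.x_comm hs hs' hne' hneg' (d₁ : F) (d₂ : F)
  rw [G.full.cert.commWord_eq hs hs', ← hi, left_eq_mul] at e
  rcases hl : T.commT s s' with _ | ⟨q, _ | ⟨q', l⟩⟩
  · simp [hl] at hterm
  · simp only [hl, Bool.and_eq_true, Nat.beq_eq, Nat.blt_eq] at hterm
    simp only [hl, rhsWord, List.map_cons, List.map_nil, List.prod_cons, List.prod_nil,
      mul_one] at e
    have h := G.x_eq_one hterm.2 e
    have hz : (q.2.1 : F) = 0 := by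
      simpa [mul_eq_zero, pow_eq_zero_iff', d₁.ne_zero, d₂.ne_zero] using h
    rcases Int.natAbs_eq q.2.1 with e' | e' <;> rw [e', hterm.1] at hz <;> simpa using hz
  · simp [hl] at hterm

end Good

end Tab

end CfsgLib.Chev
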