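import Cfsg.Agent.ChevAut.Normalize
import Cfsg.Agent.Chev.RootPairs

/-!
An automorphism fixing `U` and `V` permutes the root subgroups of the fundamental roots and of
their negatives.
-/

set_option autoImplicit false

namespace CfsgLib.Chev

open Cfsg.Lie Matrix
open scoped MatrixGroups

namespace Tab

variable {D : ChevalleyDatum}

/-- Distinct fundamental roots commute with each other's negatives. -/
def chkOpp (T : Tab D) : Bool :=
  allBelow (fun i => allBelow (fun j => Nat.beq i j ||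
    T.chkCommute 0 (D.simple i) (negR D (D.simple j))) D.rank) D.rank

namespace Good

variable {T : Tab D} (G : T.Good) {F : Type*} [Field F]
include G

/-- The minimal parabolic subgroup of a node. -/
def Pm (F : Type*) [Field F] (i : Fin D.rank) : Subgroup (GL D.Idx F) :=
  D.borelSubgroup F ⊔ Subgroup.zpowers (G.full.ns F i)

theorem ns_mem_Pm (i : Fin D.rank) : G.full.ns F i ∈ G.Pm F i :=
  Subgroup.mem_sup_right (Subgroup.mem_zpowers _)

theorem borel_le_Pm (i : Fin D.rank) : D.borelSubgroup F ≤ G.Pm F i := le_sup_left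

theorem Pm_le_iff (i : Fin D.rank) {K : Subgroup (GL D.Idx F)} (hB : D.borelSubgroup F ≤ K)
    (hn : G.full.ns F i ∈ K) : G.Pm F i ≤ K :=
  sup_le hB (Subgroup.zpowers_le.mpr hn)

theorem Pm_le_group (i : Fin D.rank) : G.Pm F i ≤ D.group F :=
  G.Pm_le_iff i G.borel_le_group (G.ns_mem_group i)

theorem mem_Pm_bn (i : Fin D.rank) {g : GL D.Idx F} (h : g ∈ G.Pm F i) :
    ∃ hg : g ∈ D.group F,
      (⟨g, hg⟩ : D.group F) ∈ (G.bnPair F).parabolic {⟨G.full.ns F i, G.ns_mem_group i⟩} := by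
  have hle : G.Pm F i ≤ ((G.bnPair F).parabolic
      {⟨G.full.ns F i, G.ns_mem_group i⟩}).map (D.group F).subtype := by
    refine G.Pm_le_iff i (fun b hb => ⟨⟨b, G.borel_le_group hb⟩, Subgroup.mem_sup_left hb, rfl⟩) ?_
    exact ⟨⟨_, G.ns_mem_group i⟩,
      Subgroup.mem_sup_right (Subgroup.subset_closure (Set.mem_singleton _)), rfl⟩
  obtain ⟨⟨y, hy⟩, hm, rfl⟩ := hle h
  exact ⟨hy, hm⟩

theorem mem_Pm (i : Fin D.rank) {g : GL D.Idx F} (h : g ∈ G.Pm F i) :
    g ∈ D.borelSubgroup F ∨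
      ∃ b ∈ D.borelSubgroup F, ∃ t, g = b * G.full.ns F i * G.full.x (D.simple i) t := by
  obtain ⟨hg, hm⟩ := G.mem_Pm_bn i h
  rcases (CfsgLib.BN.mem_parabolic_singleton (G.bnPair F)
    (G.mem_simpleSet.mpr ⟨i, rfl⟩) _).mp hm with h | h
  · exact Or.inl h
  obtain ⟨⟨b, hbG⟩, hb, ⟨c, hcG⟩, hc, e⟩ := (CfsgLib.BN.mem_cosetOf _).mp h
  have hb' : b ∈ D.borelSubgroup F := hb
  have hc' : c ∈ D.borelSubgroup F := hc
  have e' : g = b * G.full.ns F i * c := congrArg Subtype.val e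
  obtain ⟨u, hu, d, rfl⟩ := G.mem_borel.mp hc'
  obtain ⟨a, ha, t, rfl⟩ := G.pos_split_simple i hu
  set n := G.full.ns F i
  have hd : T.hT F d ∈ D.diagonalSubgroup F := by
    rw [G.full.diagonal_eq_range]; exact ⟨d, rfl⟩
  have hm : n * T.hT F d * n⁻¹ ∈ D.diagonalSubgroup F :=
    G.diagonal_normal.conj_mem ⟨_, G.hT_mem_monomial d⟩ hd ⟨n, G.ns_mem_monomial i⟩
  refine Or.inr ⟨b * (n * a * n⁻¹) * (n * T.hT F d * n⁻¹),
    mul_mem (mul_mem hb' (G.pos_le_borel (G.Up_le_pos i (G.ns_conj_Up i ha))))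
      (Subgroup.mem_sup_right hm), ((T.chi (F := F) (D.simple i) d⁻¹ : Fˣ) : F) * t, ?_⟩
  rw [e', ← G.full.hT_conj (G.full.simple_lt i.isLt), map_inv]
  group

theorem ns_notMem_borel (i : Fin D.rank) : G.full.ns F i ∉ D.borelSubgroup F := fun h =>
  CfsgLib.BN.not_mem_B (G.bnPair F) ⟨⟨_, G.ns_mem_group i⟩, G.mem_simpleSet.mpr ⟨i, rfl⟩⟩ h

theorem eq_of_ns_mem_Pm {i j : Fin D.rank} (h : G.full.ns F j ∈ G.Pm F i) : j = i := by
  obtain ⟨hg, hm⟩ := G.mem_Pm_bn i h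
  have e := CfsgLib.BN.inter_parabolic (G.bnPair F)
    (J := {⟨G.full.ns F i, G.ns_mem_group i⟩})
    (Set.singleton_subset_iff.mpr (G.mem_simpleSet.mpr ⟨i, rfl⟩))
  have h2 : (⟨G.full.ns F j, hg⟩ : D.group F) ∈
      ({⟨G.full.ns F i, G.ns_mem_group i⟩} : Set (D.group F)) :=
    e.subset ⟨G.mem_simpleSet.mpr ⟨j, rfl⟩, hm⟩
  refine G.refl_injective (G.rootAct_unique (g := G.full.ns F j) (G.rootAct_ns j) ?_)
  rw [show G.full.ns F j = G.full.ns F i from congrArg Subtype.val (Set.mem_singleton_iff.mp h2)]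
  exact G.rootAct_ns i

theorem exists_ns_mem {K : Subgroup (GL D.Idx F)} (hB : D.borelSubgroup F ≤ K)
    (hK : ∃ g ∈ D.group F, g ∈ K ∧ g ∉ D.borelSubgroup F) : ∃ i : Fin D.rank, G.full.ns F i ∈ K := by
  by_contra hno
  obtain ⟨g, hg, hgK, hgB⟩ := hK
  set M := K.subgroupOf (D.group F)
  have hBM : (G.bnPair F).B ≤ M := fun b hb => hB hb
  have he : (G.bnPair F).S ∩ (M : Set (D.group F)) = ∅ := by
    rw [Set.eq_empty_iff_forall_notMem]
    rintro ⟨n, hn⟩ ⟨hS, hM⟩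
    obtain ⟨i, hi⟩ := G.mem_simpleSet.mp hS
    exact hno ⟨i, by rw [← hi]; exact hM⟩
  have e := CfsgLib.BN.eq_parabolic _ hBM
  rw [he] at e
  have h2 : (⟨g, hg⟩ : D.group F) ∈ M := hgK
  rw [e, Cfsg.BNPair.parabolic, Subgroup.closure_empty, sup_bot_eq] at h2
  exact hgB h2

theorem eq_one_of_borel_neg' {g : GL D.Idx F} (h1 : g ∈ D.borelSubgroup F)
    (h2 : g ∈ D.negUnipotent F) : g = 1 := by
  have : g ∈ D.borelSubgroup F ⊓ D.negUnipotent F := ⟨h1, h2⟩
  rwa [G.borel_inf_neg, Subgroup.mem_bot] at this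

theorem x_neg_simple_mem (i : Fin D.rank) (t : F) :
    G.full.x (negR D (D.simple i)) t ∈ D.negUnipotent F :=
  G.x_mem_neg (Cert.negR_lt (G.full.simple_lt i.isLt))
    (fun h => G.negR_pos (G.pos_simp i) h.2) _

/-- `P_i ∩ V` is the root subgroup of `-p_i`. -/
theorem Pm_inf_neg (i : Fin D.rank) {g : GL D.Idx F} :
    g ∈ G.Pm F i ∧ g ∈ D.negUnipotent F ↔ g ∈ D.rootSubgroup F (negR D (D.simple i)) := by
  constructor
  swap
  · intro h
    obtain ⟨t, rfl⟩ := G.mem_rootSubgroup.mp h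
    obtain ⟨v, hv⟩ := G.x_negR_simple_eq i t
    refine ⟨?_, G.x_neg_simple_mem i t⟩
    rw [hv]
    exact mul_mem (mul_mem (G.ns_mem_Pm i) (G.borel_le_Pm i (G.pos_le_borel
      (G.x_mem_pos (G.pos_simp i) v)))) (inv_mem (G.ns_mem_Pm i))
  rintro ⟨hP, hV⟩
  rcases G.mem_Pm i hP with hB | ⟨b, hb, t, e⟩
  · rw [G.eq_one_of_borel_neg' hB hV]; exact one_mem _
  by_cases ht : t = 0
  · exfalso
    rw [ht, G.full.x_zero, mul_one] at e
    obtain ⟨n₀, hn₀, σ, hσ, hlong⟩ := G.exists_longest_elem (F := F)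
    obtain ⟨L, hL⟩ := G.exists_rootAct hn₀
    have hLσ := G.rootAct_unique hσ hL
    subst hLσ
    -- `V` is the conjugate of `U` by the longest element
    have hVU : ∀ v ∈ D.negUnipotent F, n₀⁻¹ * v * n₀ ∈ D.posUnipotent F := by
      intro v hv
      rw [G.negUnipotent_eq] at hv
      have hle : G.US F {r | r < D.nroots ∧ ¬ D.nroots ≤ 2 * r} ≤
          (D.posUnipotent F).comap (MulAut.conj n₀⁻¹).toMonoidHom := by
        conv_lhs => rw [Good.US]
        rw [Subgroup.closure_le]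
        rintro _ ⟨r, ⟨hr, hrn⟩, s, rfl⟩
        obtain ⟨c, hc⟩ := hσ
        set q := (G.full.pw L).symm ⟨r, hr⟩ with hq
        have hqp : IsPos D q.val := (hlong q).mpr (by
          rw [hq, Equiv.apply_symm_apply]; exact fun h => hrn h.2)
        show n₀⁻¹ * G.full.x r s * n₀⁻¹⁻¹ ∈ D.posUnipotent F
        have e1 := (hc q).2.2.2 (((c q)⁻¹ : Fˣ) * s)
        rw [← mul_assoc, Units.mul_inv, one_mul, hq, Equiv.apply_symm_apply] at e1
        have e2 : n₀⁻¹ * G.full.x r s * n₀⁻¹⁻¹ = G.full.x q.val (((c q)⁻¹ : Fˣ) * s) := by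
          rw [show G.full.x r s = G.full.x (⟨r, hr⟩ : Fin D.nroots).val s from rfl, ← e1, hq]
          group
        rw [e2]
        exact G.x_mem_pos hqp _
      have h' := hle hv
      rwa [Subgroup.mem_comap, show (MulAut.conj n₀⁻¹).toMonoidHom v = n₀⁻¹ * v * n₀⁻¹⁻¹ from rfl,
        inv_inv] at h'
    have hflip : ∀ u ∈ D.posUnipotent F, u ∈ G.US F (flipSet (G.full.pw L)) := by
      intro u hu
      rw [G.posUnipotent_eq] at hu
      exact G.US_mono (S' := flipSet (G.full.pw L)) (fun r hr => ⟨hr.1, hr, (hlong ⟨r, hr.1⟩).mp hr⟩) hu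
    set u₀ := n₀⁻¹ * g * n₀
    have e1 : b * (G.full.ns F i * n₀) * 1 = 1 * n₀ * u₀ := by
      simp only [u₀, e]; group
    have hn2 : G.full.RootAct (G.full.ns F i * n₀) (G.full.pw (i :: L)) :=
      G.rootAct_mul (G.rootAct_ns i) hσ
    obtain ⟨h1, -⟩ := G.canonical_unique hb (one_mem _)
      (mul_mem (G.ns_mem_monomial i) hn₀) hn₀ hn2 hσ (one_mem _) (hflip _ (hVU g hV)) e1
    rw [G.full.diagonal_eq_range] at h1
    obtain ⟨c, hc⟩ := h1
    have h3 : G.full.RootAct n₀ (G.full.pw (i :: L)) := by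
      have := G.rootAct_mul hn2 (G.rootAct_hT c)
      rwa [hc, mul_inv_cancel_left, mul_one] at this
    have h4 := G.rootAct_unique h3 hσ
    rw [G.pw_cons, mul_eq_right] at h4
    have h5 := congrArg (fun σ : Equiv.Perm (Fin D.nroots) => (σ (G.full.simp' i)).val) h4
    simp only [G.refl_simp, Equiv.Perm.one_apply] at h5
    have h6 := G.pos_simp i
    rw [← h5] at h6
    exact (G.pos_negF.mp h6) (G.pos_simp i)
  · obtain ⟨d, hd⟩ := G.hr_simple_mem (F := F) i (t := -t) (neg_ne_zero.mpr ht)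
    have e2 := G.x_neg_decomp (D.simple i) (inv_ne_zero ht)
    rw [inv_inv, G.full.nr_simple_eq i.isLt, hd] at e2
    set β := G.full.x (D.simple i) t * T.hT F d
    have hβ : β ∈ D.borelSubgroup F :=
      mul_mem (G.pos_le_borel (G.x_mem_pos (G.pos_simp i) _)) (G.borel_hT d)
    have e3 : g = b * β⁻¹ * G.full.x (negR D (D.simple i)) t⁻¹ := by
      rw [e, e2]; simp only [β]; group
    have hm : b * β⁻¹ = g * (G.full.x (negR D (D.simple i)) t⁻¹)⁻¹ :=
      eq_mul_inv_of_mul_eq e3.symm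
    have h1 := G.eq_one_of_borel_neg' (mul_mem hb (inv_mem hβ))
      (hm ▸ mul_mem hV (inv_mem (G.x_neg_simple_mem i _)))
    rw [h1, one_mul] at e3
    exact G.mem_rootSubgroup.mpr ⟨_, e3⟩

end Good

end Tab

end CfsgLib.Chev
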